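import Cfsg.Agent.Lib.Blocks.InertiaNine.Local
import Cfsg.Agent.Lib.Char.Induced

/-!
# The principal block of a group with a normal subgroup of index four and four-group Sylow subgroups

`K` is normal of index four in `H`, the Sylow `2`-subgroup `P` of `H` is elementary abelian,
`H = K P`, the three involutions of `P ∩ K` are conjugate in `K` and their centralizers in `K`
have normal `2`-complements.  The four characters of the principal block of `K` extend, each in
four ways, to the sixteen characters of that of `H`.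
-/

set_option autoImplicit false
set_option linter.unusedSectionVars false
set_option linter.style.haveILetI false

namespace CfsgLib.Blocks.InertiaNine

open Cfsg
open scoped ComplexConjugate CfsgLib.Char

variable {M : Ideal AlgInt} {H : Type*} [Group H] [Fintype H]

/-- The hypotheses on the normal subgroup. -/
structure FourKernel (P : Sylow 2 H) (K : Subgroup H) (t : H) : Prop where
  normal : K.Normal
  index : K.index = 4
  comm : ∀ x ∈ (P : Subgroup H), ∀ y ∈ (P : Subgroup H), x * y = y * x
  exp : ∀ x ∈ (P : Subgroup H), x ^ 2 = 1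
  cover : ∀ h : H, ∃ k ∈ K, ∃ y ∈ (P : Subgroup H), h = k * y
  card_inf : Nat.card ↥((P : Subgroup H) ⊓ K) = 4
  tK : t ∈ K
  tP : t ∈ (P : Subgroup H)
  t_ne : t ≠ 1
  fuse : ∀ x ∈ (P : Subgroup H), x ∈ K → x ≠ 1 → ∃ k ∈ K, k * t * k⁻¹ = x
  npc : ∀ tk : K, (tk : H) = t →
    HasNormalPComplement 2 (Subgroup.centralizer ({tk} : Set K))
  reg : ∀ s : H, ¬ 2 ∣ orderOf s → s ∈ K

variable {P : Sylow 2 H} {K : Subgroup H} {t : H}

/-- A positive integral part of a sum. -/
theorem units_of_sum_sq {ι : Type*} {s : Finset ι} {u : ι → ℤ} {i₀ : ι} (hi₀ : i₀ ∈ s) (h1 : u i₀ = 1)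
    (hne : ∀ i ∈ s, u i ≠ 0) (hsum : ∑ i ∈ s, u i ^ 2 = 4) :
    s.card = 4 ∧ ∀ i ∈ s, u i = 1 ∨ u i = -1 := by
  classical
  have hone : ∀ i ∈ s, u i ^ 2 = 1 := by
    intro i hi
    by_cases h : i = i₀
    · rw [h, h1, one_pow]
    · have h2 : u i₀ ^ 2 + u i ^ 2 ≤ 4 := by
        rw [← hsum, ← Finset.sum_pair (f := fun i => u i ^ 2) (Ne.symm h)]
        exact Finset.sum_le_sum_of_subset_of_nonneg (by simp [Finset.insert_subset_iff, hi, hi₀])
          fun j _ _ => sq_nonneg _
      rw [h1, one_pow] at h2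
      have h3 : u i ≤ 1 := by nlinarith
      have h4 : -1 ≤ u i := by nlinarith
      have h0 := hne i hi
      rcases (show u i = 1 ∨ u i = -1 by omega) with e | e <;> rw [e] <;> norm_num
  refine ⟨?_, fun i hi => sq_eq_one_iff.mp (hone i hi)⟩
  rw [Finset.sum_congr rfl hone, Finset.sum_const, nsmul_eq_mul, mul_one] at hsum
  exact_mod_cast hsum

/-- The principal block of the normal subgroup. -/
theorem principal_kernel (hM : IsPModular 2 M) (hK : FourKernel P K t) [Fintype K]
    [DecidablePred (· ∈ principalBlock M K)] :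
    (Finset.univ.filter (· ∈ principalBlock M K)).card = 4 ∧
    ∃ δ : IrrCharacter K → ℤ, (∀ η, δ η = 1 ∨ δ η = -1) ∧
      ∀ η ∈ principalBlock M K, (∃ n : ℤ, (η : K → ℂ) 1 = δ η + 4 * (n : ℂ)) ∧
        ∀ η' ∈ principalBlock M K, classInner (regPart 2 (η : K → ℂ)) (η' : K → ℂ) =
          (open Classical in if η = η' then (1 : ℂ) else 0) - (δ η : ℂ) * δ η' / 4 := by
  classical
  have := isPrime_of_isPModular hM
  haveI : Fact (Nat.Prime 2) := ⟨Nat.prime_two⟩
  haveI := hK.normal
  set Q : Subgroup K := (P : Subgroup H).subgroupOf K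
  have hQp : IsPGroup 2 Q := P.2.comap_of_injective _ K.subtype_injective
  have hQcard : Nat.card Q = 4 := by
    show Nat.card ↥((P : Subgroup H).subgroupOf K) = 4
    rw [← Subgroup.inf_subgroupOf_right,
      Nat.card_congr (Subgroup.subgroupOfEquivOfLe inf_le_right).toEquiv, hK.card_inf]
  -- a Sylow subgroup
  obtain ⟨R, hR⟩ := hQp.exists_le_sylow
  have hRQ : (R : Subgroup K) = Q := by
    refine le_antisymm ?_ hR
    intro r hr
    have hle : ((R : Subgroup K).map K.subtype) ⊓ ⊤ ≤ ⊤ := le_top
    have h4 : Nat.card (R : Subgroup K) ≤ 4 := by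
      obtain ⟨T, hT⟩ := (R.2.map K.subtype).exists_le_sylow
      obtain ⟨g, hg⟩ := MulAction.exists_smul_eq H P T
      have hi : ((R : Subgroup K).map K.subtype).map (MulAut.conj g⁻¹).toMonoidHom ≤
          (P : Subgroup H) ⊓ K := by
        rintro _ ⟨_, ⟨r, hr, rfl⟩, rfl⟩
        refine ⟨?_, ?_⟩
        · have : (r : H) ∈ (g • P : Sylow 2 H) := by
            rw [hg]; exact hT ⟨r, hr, rfl⟩
          rw [← SetLike.mem_coe, Sylow.coe_smul, Set.mem_smul_set] at this
          obtain ⟨y, hy, hyr⟩ := this
          show g⁻¹ * (r : H) * g⁻¹⁻¹ ∈ (P : Subgroup H)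
          rw [← hyr]
          simp only [MulAut.smul_def, MulAut.conj_apply, mul_assoc, inv_mul_cancel_left, inv_inv, inv_mul_cancel, mul_one]
          exact hy
        · exact hK.normal.conj_mem _ r.2 g⁻¹
      have h := Subgroup.card_le_of_le hi
      rwa [hK.card_inf, Subgroup.card_map_of_injective (MulAut.conj g⁻¹).injective,
        Subgroup.card_map_of_injective K.subtype_injective] at h
    exact (Subgroup.eq_of_le_of_card_ge hR (h4.trans hQcard.ge)).ge hr
  have hcommQ : ∀ x ∈ (R : Subgroup K), ∀ y ∈ (R : Subgroup K), x * y = y * x := fun x hx y hy => by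
    rw [hRQ] at hx hy
    exact Subtype.ext (hK.comm _ hx _ hy)
  set tk : K := ⟨t, hK.tK⟩
  have htk1 : tk ≠ 1 := fun h => hK.t_ne (congrArg Subtype.val h)
  have htkR : tk ∈ (R : Subgroup K) := by rw [hRQ]; exact hK.tP
  have htk2 : tk ^ 2 = 1 := Subtype.ext (hK.exp t hK.tP)
  have htko : orderOf tk = 2 := orderOf_eq_prime htk2 htk1
  have hX : Reps ({1, tk} : Finset K) := by
    refine ⟨fun x hx => ?_, fun g hg => ?_⟩
    · rcases Finset.mem_insert.mp hx with rfl | hx
      · exact ⟨0, by simp⟩
      · rw [Finset.mem_singleton.mp hx]; exact ⟨1, by rw [htko, pow_one]⟩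
    · have hno : ¬ IsConj (1 : K) tk := fun h => htk1 (isConj_one_right.mp h)
      by_cases hg1 : g = 1
      · refine ⟨1, ⟨by simp, hg1 ▸ IsConj.refl _⟩, fun y hy => ?_⟩
        rcases Finset.mem_insert.mp hy.1 with e | e
        · exact e
        · rw [Finset.mem_singleton.mp e, hg1] at hy
          exact absurd hy.2 hno
      · obtain ⟨T, hT⟩ := (Transfer.isPGroup_zpowers hg).exists_le_sylow
        obtain ⟨c, hc⟩ := MulAction.exists_smul_eq K T R
        have hmem : c * g * c⁻¹ ∈ (R : Subgroup K) := by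
          show c * g * c⁻¹ ∈ R
          rw [← hc, ← SetLike.mem_coe, Sylow.coe_smul]
          exact Set.mem_smul_set.mpr ⟨g, hT (Subgroup.mem_zpowers g), rfl⟩
        rw [hRQ] at hmem
        obtain ⟨k, hk, hkx⟩ := hK.fuse _ hmem (c * g * c⁻¹).2 fun h => hg1 (by
          have h' : c * g * c⁻¹ = 1 := Subtype.ext h
          simpa using h')
        have hconj : IsConj g tk := ((isConj_iff.mpr ⟨c, rfl⟩ : IsConj g (c * g * c⁻¹))).trans
          (isConj_iff.mpr ⟨⟨k, hk⟩, Subtype.ext hkx⟩ : IsConj tk (c * g * c⁻¹)).symm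
        refine ⟨tk, ⟨by simp, hconj⟩, fun y hy => ?_⟩
        rcases Finset.mem_insert.mp hy.1 with e | e
        · rw [e] at hy
          exact absurd (hy.2.symm.trans hconj) hno
        · exact Finset.mem_singleton.mp e
  have hC := hK.npc tk rfl
  have hle : (R : Subgroup K) ≤ Subgroup.centralizer ({tk} : Set K) := fun x hx =>
    Subgroup.mem_centralizer_singleton_iff.mpr (hcommQ x hx tk htkR)
  have hSyl : Nat.card (R.subtype hle : Sylow 2 (Subgroup.centralizer ({tk} : Set K))) = 4 := by
    rw [← hQcard, ← hRQ]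
    exact Nat.card_congr (Subgroup.subgroupOfEquivOfLe hle).toEquiv
  choose u hu using fun η : IrrCharacter K => exists_int_invol htk2 η
  have hsec : ∀ η ∈ principalBlock M K, ∀ η' ∈ principalBlock M K,
      sectionInner tk (η : K → ℂ) (η' : K → ℂ) = (u η : ℂ) * u η' / 4 := by
    intro η hη η' hη'
    have hcard := card_regular_npc hC (R.subtype hle)
    rw [hSyl] at hcard
    rw [sectionInner, Finset.sum_congr rfl (g := fun s : Subgroup.centralizer ({tk} : Set K) =>
      if IsPRegular 2 s then (u η : ℂ) * u η' else 0) fun s _ => ?_, ← Finset.sum_filter,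
      Finset.sum_const, nsmul_eq_mul, ← hcard, Nat.cast_mul]
    · have h0 : ((Finset.univ.filter fun s : Subgroup.centralizer ({tk} : Set K) =>
          IsPRegular 2 s).card : ℂ) ≠ 0 := by
        rw [Nat.cast_ne_zero]
        exact (Finset.card_pos.mpr ⟨1, by simp [IsPRegular]⟩).ne'
      push_cast
      field_simp
    · by_cases hs : IsPRegular 2 s
      · rw [regPart_of_regular hs, if_pos hs, value_eq_of_npc hM hη (hX.two _ (by simp)) hC hs,
          value_eq_of_npc hM hη' (hX.two _ (by simp)) hC hs, hu, hu, map_intCast]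
      · rw [regPart_of_singular hs, if_neg hs]
  have hne : ∀ η ∈ principalBlock M K, u η ≠ 0 := by
    intro η hη h0
    have h := value_congr_of_principal hM R hη (c := tk)
      (Subgroup.mem_centralizer_iff.mpr fun x hx => hcommQ x hx tk htkR)
    rw [hu, h0, Int.cast_zero, zero_div, zero_sub] at h
    exact not_memLocalIdeal_one (by simpa using memLocalIdeal_neg h)
  have htr := sum_sectionInner_self hM (M := M) (x := tk) (hX.two _ (by simp))
  rw [blockRank_principal_of_npc hM hC (R.subtype hle),
    Finset.sum_congr rfl fun η hη => hsec η (Finset.mem_filter.mp hη).2 η (Finset.mem_filter.mp hη).2,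
    ← Finset.sum_div, div_eq_iff (by norm_num)] at htr
  have hsum : ∑ η : IrrCharacter K with η ∈ principalBlock M K, u η ^ 2 = 4 := by
    have : ((∑ η : IrrCharacter K with η ∈ principalBlock M K, u η ^ 2 : ℤ) : ℂ) = ((4 : ℤ) : ℂ) := by
      push_cast
      rw [Finset.sum_congr rfl fun η _ => sq (u η : ℂ), htr]
      norm_num
    exact_mod_cast this
  have hut : u (trivIrr K) = 1 := by
    have h := hu (trivIrr K)
    have : ((u (trivIrr K) : ℤ) : ℂ) = ((1 : ℤ) : ℂ) := by rw [← h]; simp [trivIrr]
    exact_mod_cast this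
  have htriv : trivIrr K ∈ Finset.univ.filter (· ∈ principalBlock M K) := by
    simp only [Finset.mem_filter, Finset.mem_univ, true_and]
    rw [principalBlock_eq]
    exact mem_blockOf_self (trivIrr K)
  obtain ⟨hcard4, hunit⟩ := units_of_sum_sq htriv hut
    (fun η hη => hne η (Finset.mem_filter.mp hη).2) hsum
  refine ⟨hcard4, fun η => if η ∈ principalBlock M K then u η else 1, fun η => ?_, fun η hη => ⟨?_, ?_⟩⟩
  · beta_reduce
    by_cases h : η ∈ principalBlock M K
    · rw [if_pos h]; exact hunit η (by simp [h])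
    · exact Or.inl (if_neg h)
  · simp only [if_pos hη]
    -- the sum over the four-group
    obtain ⟨y, hy, hy1, hyt⟩ : ∃ y ∈ (R : Subgroup K), y ≠ 1 ∧ y ≠ tk := by
      by_contra hno
      push Not at hno
      have hsub : ∀ x : (R : Subgroup K), (x : K) ∈ ({1, tk} : Finset K) := fun x => by
        by_cases h : (x : K) = 1
        · simp [h]
        · simp [hno x x.2 h]
      have h2 := Fintype.card_le_of_injective (fun x : (R : Subgroup K) => (⟨(x : K), hsub x⟩ :
        ({1, tk} : Finset K))) fun a b h => Subtype.ext (congrArg (fun z => (z.1 : K)) h)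
      rw [Fintype.card_coe, ← Nat.card_eq_fintype_card, hRQ, hQcard] at h2
      have := (Finset.card_insert_le (1 : K) {tk})
      simp only [Finset.card_singleton] at this
      omega
    have hy2 : y ^ 2 = 1 := by
      rw [hRQ] at hy
      exact Subtype.ext (hK.exp _ hy)
    obtain ⟨n, hn⟩ := four_dvd_sum (Char.isCharacter_of_isIrr η.2) htk2 hy2 (hcommQ tk htkR y hy)
    have hval : ∀ z ∈ (R : Subgroup K), z ≠ 1 → (η : K → ℂ) z = u η := by
      intro z hz hz1
      rw [hRQ] at hz
      obtain ⟨k, hk, hkz⟩ := hK.fuse _ hz z.2 fun h => hz1 (Subtype.ext h)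
      rw [← hu η]
      exact IsClassFunction.eq_of_isConj (irr_classFunction η)
        (isConj_iff.mpr ⟨⟨k, hk⟩, Subtype.ext hkz⟩ : IsConj tk z).symm
    have hty1 : tk * y ≠ 1 := fun h => hyt (by
      rw [eq_inv_of_mul_eq_one_right h]
      exact inv_eq_of_mul_eq_one_right (by rw [← sq, htk2]))
    rw [hu, hval y hy hy1, hval _ (mul_mem htkR hy) hty1] at hn
    exact ⟨(n : ℤ) - u η, by push_cast; linear_combination hn⟩
  · intro η' hη'
    simp only [if_pos hη, if_pos hη']
    rw [← hsec η hη η' hη']
    have h := sum_sectionInner hX η η'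
    rw [Finset.sum_pair (Ne.symm htk1)] at h
    rw [show regPart 2 (η : K → ℂ) = fun g => sectionInd 1 g * (η : K → ℂ) g from ?_,
      classInner_sectionInd hX (by simp) (irr_classFunction η) (irr_classFunction η'), ← h,
      add_sub_cancel_right]
    funext g
    by_cases hg : IsPRegular 2 g
    · rw [regPart_of_regular hg, sectionInd, if_pos ⟨1, AbelianFrob.isPPart_regular hM hg,
        IsConj.refl 1⟩, one_mul]
    · rw [regPart_of_singular hg, sectionInd, if_neg, zero_mul]
      rintro ⟨y, ⟨w, hw, -, -, hwr⟩, hc⟩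
      obtain rfl := isConj_one_right.mp hc.symm
      rw [one_mul] at hw
      exact hg (hw ▸ hwr)

/-- The restriction of the members of the principal block. -/
theorem isIrr_restrict (hM : IsPModular 2 M) (hK : FourKernel P K t) [Fintype K]
    {ξ : IrrCharacter H} (hξ : ξ ∈ principalBlock M H) :
    IsIrrCharacter K (fun k : K => (ξ : H → ℂ) k) := by
  classical
  haveI := hK.normal
  haveI : Fact (Nat.Prime 2) := ⟨Nat.prime_two⟩
  have := isPrime_of_isPModular hM
  have hχc := Char.isCharacter_of_isIrr ξ.2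
  have hres := Char.isCharacter_restrict K hχc
  refine Char.isIrr_of_norm_one hres ?_
  obtain ⟨e, he⟩ := Char.exists_nat_classInner hres hres
  set f := Char.avgN K (fun g => (ξ : H → ℂ) g * conj ((ξ : H → ℂ) g)) with hf
  have hfc : IsCharacter H f :=
    Char.isCharacter_avgN K (Char.isCharacter_mul hχc (Char.isCharacter_conj hχc))
  have hfr : ∀ g, f g =
      (((Nat.card K : ℝ)⁻¹ * ∑ n : K, Complex.normSq ((ξ : H → ℂ) ((n : H) * g)) : ℝ) : ℂ) := by
    intro g
    simp only [hf, Char.avgN, Complex.mul_conj]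
    push_cast
    rfl
  have hcoset : ∀ g, ∀ k ∈ K, f (k * g) = f g := fun g k hk => avgN_mul_left K _ ⟨k, hk⟩ g
  have hpos : ∀ g : H, 1 ≤ (f g).re := by
    intro g
    obtain ⟨k, hk, y, hy, rfl⟩ := hK.cover g
    rw [hcoset y k hk]
    obtain ⟨ρn, ρ, hρ⟩ := hfc
    obtain ⟨μ, h1, h2⟩ := Char.character_pow_eq_sum ρ y
    have hint : ∃ z : ℤ, f y = z := by
      have e : ∀ i, ∃ z : ℤ, μ i = z := fun i => by
        have hμ : μ i ^ 2 = 1 := by
          obtain ⟨c, hc⟩ := orderOf_dvd_of_pow_eq_one (hK.exp y hy)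
          rw [hc, pow_mul, h1 i, one_pow]
        rcases sq_eq_one_iff.mp hμ with h | h
        exacts [⟨1, by simp [h]⟩, ⟨-1, by simp [h]⟩]
      choose z hz using e
      refine ⟨∑ i, z i, ?_⟩
      rw [← hρ, show y = y ^ 1 from (pow_one y).symm, h2, Int.cast_sum]
      exact Finset.sum_congr rfl fun i _ => by rw [pow_one, hz]
    obtain ⟨z, hz⟩ := hint
    have hne : (ξ : H → ℂ) y ≠ 0 := fun h0 => by
      have h := value_congr_of_principal hM P hξ (c := y)
        (Subgroup.mem_centralizer_iff.mpr fun x hx => hK.comm x hx y hy)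
      rw [h0, zero_div, zero_sub] at h
      exact not_memLocalIdeal_one (by simpa using memLocalIdeal_neg h)
    have hp : 0 < (f y).re := by
      rw [hfr, Complex.ofReal_re]
      refine mul_pos (inv_pos.mpr (Nat.cast_pos.mpr Nat.card_pos)) ?_
      refine Finset.sum_pos' (fun n _ => Complex.normSq_nonneg _) ⟨1, Finset.mem_univ _, ?_⟩
      rw [OneMemClass.coe_one, one_mul]
      exact Complex.normSq_pos.mpr hne
    rw [hz] at hp ⊢
    rw [Complex.intCast_re] at hp ⊢
    exact_mod_cast (show (1 : ℤ) ≤ z from by exact_mod_cast hp)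
  have htot : ∑ g, f g = (Nat.card H : ℂ) := by
    rw [hf, sum_avgN]
    have h := Char.classInner_irr ξ.2 ξ.2
    rw [if_pos rfl, classInner, inv_mul_eq_one₀ (Nat.cast_ne_zero.mpr Nat.card_pos.ne')] at h
    exact h.symm
  have hKval : ∀ g ∈ K, f g = (e : ℂ) := fun g hg => by
    have h := hcoset 1 g hg
    rw [mul_one] at h
    rw [h, hf, avgN_mul_conj_one, he]
  have hsplit := Finset.sum_filter_add_sum_filter_not Finset.univ (fun g => g ∈ K) f
  rw [htot, Finset.sum_congr rfl fun g hg => hKval g (Finset.mem_filter.mp hg).2, Finset.sum_const,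
    nsmul_eq_mul] at hsplit
  have hre := congrArg Complex.re hsplit
  rw [Complex.add_re, Complex.re_sum, Complex.natCast_re, ← Nat.cast_mul, Complex.natCast_re] at hre
  set T := Finset.univ.filter fun g => ¬ g ∈ K
  have hge : (T.card : ℝ) ≤ ∑ g ∈ T, (f g).re := by
    rw [Finset.card_eq_sum_ones, Nat.cast_sum, Nat.cast_one]
    exact Finset.sum_le_sum fun g _ => hpos g
  have hcard : ((Finset.univ.filter fun g : H => g ∈ K).card : ℝ) + T.card = Nat.card H := by
    rw [← Nat.cast_add, Finset.card_filter_add_card_filter_not, Finset.card_univ,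
      Nat.card_eq_fintype_card]
  have hKpos : (0 : ℝ) < ((Finset.univ.filter fun g : H => g ∈ K).card : ℝ) :=
    Nat.cast_pos.mpr (Finset.card_pos.mpr ⟨1, by simp [K.one_mem]⟩)
  push_cast at hre
  have hele : (e : ℝ) ≤ 1 := by
    by_contra h
    push Not at h
    nlinarith
  have he0 : e ≠ 0 := fun h => by
    rw [h, Nat.cast_zero] at he
    have h1 := congrFun (Char.eq_zero_of_classInner_self he) 1
    simp only [OneMemClass.coe_one, Pi.zero_apply] at h1
    exact Char.irr_degree_ne_zero ξ.2 h1
  have : e ≤ 1 := by exact_mod_cast hele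
  rw [he, show e = 1 by omega, Nat.cast_one]

/-- Characters over a member of the principal block of `K` are in the principal block. -/
theorem mem_principal_of_over (hM : IsPModular 2 M) (hK : FourKernel P K t) [Fintype K]
    {η : IrrCharacter K} (hη : η ∈ principalBlock M K) {ξ : IrrCharacter H}
    (hcon : classInner (fun k : K => (ξ : H → ℂ) k) (η : K → ℂ) ≠ 0) :
    ξ ∈ principalBlock M H := by
  classical
  haveI := hK.normal
  have := isPrime_of_isPModular hM
  have ht : trivIrr K ∈ principalBlock M K := by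
    rw [principalBlock_eq]; exact mem_blockOf_self (trivIrr K)
  refine mem_principalBlock_of_regular hM fun g hg => ?_
  have hgK := hK.reg g hg
  have hsupp : ∀ x, x ∉ K → classInd g x = 0 := fun x hx => classInd_eq_zero_of_not_mem hgK hx
  have h2 := sub_mem_localIdeal_of_sameBlock
    (IsPBlock.sameBlock isPBlock_principalBlock hη ht)
    (f := fun n : K => classInd g (n : H)) (fun a x => isClassFunction_classInd g (a : H) (x : H))
    fun n => memLocalRing_classInd g _
  have hcon0 : classInner (fun n : K => (trivIrr H : H → ℂ) n) (trivIrr K : K → ℂ) ≠ 0 := by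
    rw [show (fun n : K => (trivIrr H : H → ℂ) n) = (trivIrr K : K → ℂ) from rfl,
      Char.classInner_irr (trivIrr K).2 (trivIrr K).2, if_pos rfl]
    exact one_ne_zero
  rw [← omega_eq_of_constituent hcon (isClassFunction_classInd g) hsupp,
    ← omega_eq_of_constituent hcon0 (isClassFunction_classInd g) hsupp, omega_classInd,
    omega_classInd] at h2
  have e : centralChar (trivIrr H : H → ℂ) g =
      ((Subgroup.centralizer ({g} : Set H)).index : ℂ) := by
    simp [centralChar, trivIrr]
  rwa [e] at h2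

/-- The principal block of `H` on the regular elements. -/
theorem central_data (hM : IsPModular 2 M) (hK : FourKernel P K t) [Fintype K]
    [DecidablePred (· ∈ principalBlock M H)] :
    ∃ (δ : IrrCharacter K → ℤ) (π : IrrCharacter H → IrrCharacter K),
      (∀ η, δ η = 1 ∨ δ η = -1) ∧
      (∀ ξ ∈ principalBlock M H, ∃ n : ℤ, (ξ : H → ℂ) 1 = δ (π ξ) + 4 * (n : ℂ)) ∧
      (∀ ξ ∈ principalBlock M H, ∀ ξ' ∈ principalBlock M H,
        classInner (regPart 2 (ξ : H → ℂ)) (ξ' : H → ℂ) =
          ((open Classical in if π ξ = π ξ' then (1 : ℂ) else 0) - (δ (π ξ) : ℂ) * δ (π ξ') / 4) / 4) ∧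
      blockRank 2 (principalBlock M H) = 3 := by
  classical
  haveI := hK.normal
  haveI : Fact (Nat.Prime 2) := ⟨Nat.prime_two⟩
  have := isPrime_of_isPModular hM
  obtain ⟨h4, δ, hδ, hprops⟩ := principal_kernel hM hK
  let π : IrrCharacter H → IrrCharacter K := fun ξ =>
    if h : ξ ∈ principalBlock M H then ⟨_, isIrr_restrict hM hK h⟩ else trivIrr K
  have hπv : ∀ ξ ∈ principalBlock M H, ∀ k : K, (π ξ : K → ℂ) k = (ξ : H → ℂ) k := fun ξ h k => by
    simp only [π, dif_pos h]
  have hπmem : ∀ ξ ∈ principalBlock M H, π ξ ∈ principalBlock M K := by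
    intro ξ h
    have hb : IsPBlock M (principalBlock M K) := isPBlock_principalBlock
    have ht : trivIrr H ∈ principalBlock M H := by
      rw [principalBlock_eq]; exact mem_blockOf_self (trivIrr H)
    have ht' : trivIrr K ∈ principalBlock M K := by
      rw [principalBlock_eq]; exact mem_blockOf_self (trivIrr K)
    have hcon : classInner (fun n : K => (trivIrr H : H → ℂ) n) (trivIrr K : K → ℂ) ≠ 0 := by
      rw [show (fun n : K => (trivIrr H : H → ℂ) n) = (trivIrr K : K → ℂ) from rfl,
        Char.classInner_irr (trivIrr K).2 (trivIrr K).2, if_pos rfl]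
      exact one_ne_zero
    have hθ : (π ξ : K → ℂ) = fun n : K => (ξ : H → ℂ) n := funext (hπv ξ h)
    obtain ⟨g, hg⟩ := exists_conjI_mem_of_congr hb ht'
      (fun v hv hl hs => omega_congr_of_covering isPBlock_principalBlock hb ht ht' hcon h ht' hv hl hs)
      (ψ := π ξ) (by rw [← hθ, Char.classInner_irr (π ξ).2 (π ξ).2, if_pos rfl]; exact one_ne_zero)
    have e : conjI g (π ξ) = π ξ := Subtype.ext (by
      rw [coe_conjI, hθ]
      exact Char.conjBy_restrict K (irr_classFunction ξ) g)
    rwa [e] at hg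
  have hinner : ∀ ξ ∈ principalBlock M H, ∀ ξ' ∈ principalBlock M H,
      classInner (regPart 2 (ξ : H → ℂ)) (ξ' : H → ℂ) =
        ((if π ξ = π ξ' then (1 : ℂ) else 0) - (δ (π ξ) : ℂ) * δ (π ξ') / 4) / 4 := by
    intro ξ h ξ' h'
    rw [← (hprops _ (hπmem ξ h)).2 _ (hπmem ξ' h'), classInner, classInner,
      show Nat.card H = Nat.card K * 4 by rw [← hK.index, Subgroup.card_mul_index]]
    have e : ∑ g, regPart 2 (ξ : H → ℂ) g * conj ((ξ' : H → ℂ) g) =
        ∑ k : K, regPart 2 (π ξ : K → ℂ) k * conj ((π ξ' : K → ℂ) k) := by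
      refine (Fintype.sum_of_injective Subtype.val Subtype.val_injective
        (fun k : K => regPart 2 (π ξ : K → ℂ) k * conj ((π ξ' : K → ℂ) k))
        (fun g => regPart 2 (ξ : H → ℂ) g * conj ((ξ' : H → ℂ) g)) (fun g hg => ?_) fun k => ?_).symm
      · rw [regPart_of_singular, zero_mul]
        intro hr
        exact hg ⟨⟨g, hK.reg g hr⟩, rfl⟩
      · by_cases hk : IsPRegular 2 k
        · rw [regPart_of_regular hk, regPart_of_regular (by rwa [IsPRegular, Subgroup.orderOf_coe]),
            hπv ξ h, hπv ξ' h']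
        · rw [regPart_of_singular hk, regPart_of_singular (by rwa [IsPRegular, Subgroup.orderOf_coe]),
            zero_mul, zero_mul]
    rw [e]
    push_cast
    ring
  refine ⟨δ, π, hδ, fun ξ h => ?_, hinner, ?_⟩
  · obtain ⟨n, hn⟩ := (hprops _ (hπmem ξ h)).1
    exact ⟨n, by rw [← hn, hπv ξ h]; rfl⟩
  -- four extensions of every member
  have hfib : ∀ η ∈ Finset.univ.filter (· ∈ principalBlock M K),
      ((Finset.univ.filter (· ∈ principalBlock M H)).filter fun ξ => π ξ = η).card = 4 := by
    intro η hη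
    have hη' := (Finset.mem_filter.mp hη).2
    have h := congrFun (Char.classFunction_expansion (Char.isClassFunction_indFun K (η : K → ℂ))) 1
    rw [Char.indFun_one] at h
    simp only [Finset.sum_apply, Pi.smul_apply,
      fun χ : IrrCharacter H => Char.frobenius_reciprocity K (η : K → ℂ) (irr_classFunction χ),
      smul_eq_mul] at h
    set S := (Finset.univ.filter (· ∈ principalBlock M H)).filter fun ξ => π ξ = η
    have hterm : ∀ ξ : IrrCharacter H, classInner (η : K → ℂ) (fun k : K => (ξ : H → ℂ) k) *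
        (ξ : H → ℂ) 1 = if ξ ∈ S then (η : K → ℂ) 1 else 0 := by
      intro ξ
      by_cases hξ : ξ ∈ principalBlock M H
      · rw [show (fun k : K => (ξ : H → ℂ) k) = (π ξ : K → ℂ) from (funext (hπv ξ hξ)).symm,
          Char.classInner_coe]
        by_cases he : η = π ξ
        · rw [if_pos he, if_pos (by simp [S, hξ, he]), one_mul, he, hπv ξ hξ]; rfl
        · rw [if_neg he, if_neg (fun hS => he (Finset.mem_filter.mp hS).2.symm), zero_mul]
      · have h0 : classInner (fun k : K => (ξ : H → ℂ) k) (η : K → ℂ) = 0 := by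
          by_contra hne
          exact hξ (mem_principal_of_over hM hK hη' hne)
        rw [← Char.classInner_conj_symm, h0, map_zero, zero_mul, if_neg (by simp [S, hξ])]
    rw [Finset.sum_congr rfl fun ξ _ => hterm ξ, ← Finset.sum_filter, Finset.sum_const,
      nsmul_eq_mul, hK.index] at h
    have h2 := mul_right_cancel₀ (Char.irr_degree_ne_zero η.2) h
    rw [Finset.filter_univ_mem] at h2
    exact_mod_cast h2.symm
  have hcard : (Finset.univ.filter (· ∈ principalBlock M H)).card = 16 := by
    rw [Finset.card_eq_sum_card_fiberwise (f := π) (t := Finset.univ.filter (· ∈ principalBlock M K))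
      (fun ξ hξ => by
        simp only [Finset.mem_coe, Finset.mem_filter, Finset.mem_univ, true_and] at hξ ⊢
        exact hπmem ξ hξ), Finset.sum_congr rfl hfib, Finset.sum_const, h4]
    rfl
  have hr := blockRank_eq_sum_classInner hM (p := 2)
    (IsPBlock.isBlockUnion (isPBlock_principalBlock (M := M) (G := H)))
  rw [Finset.sum_congr rfl (g := fun _ => (3 / 16 : ℂ)) fun ξ hξ => ?_, Finset.sum_const, hcard,
    nsmul_eq_mul] at hr
  · exact_mod_cast hr.trans (by norm_num : ((16 : ℕ) : ℂ) * (3 / 16) = ((3 : ℕ) : ℂ))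
  · have hξ' := (Finset.mem_filter.mp hξ).2
    rw [hinner ξ hξ' ξ hξ', if_pos rfl]
    rcases hδ (π ξ) with e | e <;> rw [e] <;> norm_num

end CfsgLib.Blocks.InertiaNine
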