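import Mathlib

/-!
# An integral lemma on two projection matrices

`N` and `N'` are integral symmetric matrices with `N ^ 2 = 4 N`, `N' ^ 2 = 4 N'` and
`N N' = d d'`; under the Cauchy inequalities for the three positive forms attached to them all
entries of `d` are units, so there are sixteen indices.
-/

set_option autoImplicit false
set_option linter.unusedSectionVars false

namespace CfsgLib.Blocks.InertiaNine

/-- The possible rows at a vertex with `(|d|, N, N') = (1, 1, 3)`. -/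
def rowTypes : Finset (ℤ × ℤ × ℤ × ℤ × ℤ) :=
  {(1, 1, 1, 0, 0), (1, 1, 1, 0, 1), (1, 1, 1, 1, 0), (1, 1, 1, 1, -1),
   (1, 1, 3, 0, 0), (1, 1, 3, 1, -1), (1, 1, 3, 1, 3),
   (1, 3, 1, 0, 0), (1, 3, 1, 1, -1), (1, 3, 1, -1, 1),
   (2, 2, 2, 0, 0), (2, 2, 2, 0, 1), (2, 2, 2, 1, 0), (2, 2, 2, 1, -1)}

/-- The kinds of vertices: `(|d|, N, N')`. -/
def kinds : Finset (ℤ × ℤ × ℤ) :=
  {(1, 1, 1), (1, 1, 3), (1, 3, 1), (3, 3, 3), (2, 2, 2)}

theorem kind_cases {D n n' z z' : ℤ} (hD : 0 < D) (h1 : D ^ 2 ≤ 4 * n) (h2 : D ^ 2 ≤ 4 * n')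
    (h3 : 4 * n + 4 * n' - D ^ 2 < 16) (hn : Odd D → Odd n) (hn' : Odd D → Odd n')
    (hz : (4 * z - D) ^ 2 ≤ (4 * n - D ^ 2) * 16) (hz' : (4 * z' - D) ^ 2 ≤ (4 * n' - D ^ 2) * 16) :
    (D, n, n') ∈ kinds := by
  have hD4 : D < 4 := by nlinarith
  have hn0 : 1 ≤ n := by nlinarith
  have hn0' : 1 ≤ n' := by nlinarith
  interval_cases D
  · have hno := hn ⟨0, by norm_num⟩
    have hno' := hn' ⟨0, by norm_num⟩
    have hb : n + n' ≤ 4 := by linarith
    have : n ≤ 3 := by linarith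
    have : n' ≤ 3 := by linarith
    interval_cases n <;> interval_cases n' <;>
      first
        | (simp [kinds]; done)
        | exact absurd hno (by decide)
        | exact absurd hno' (by decide)
        | omega
  · have hb : n + n' ≤ 4 := by linarith
    have : n ≤ 3 := by linarith
    have : n' ≤ 3 := by linarith
    rcases eq_or_lt_of_le hn0 with h | h
    · subst h
      have h0 : (4 * z - 2) ^ 2 = 0 := le_antisymm (by linarith) (sq_nonneg _)
      have h0' := pow_eq_zero_iff (n := 2) (by norm_num) |>.mp h0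
      omega
    rcases eq_or_lt_of_le hn0' with h' | h'
    · subst h'
      have h0 : (4 * z' - 2) ^ 2 = 0 := le_antisymm (by linarith) (sq_nonneg _)
      have h0' := pow_eq_zero_iff (n := 2) (by norm_num) |>.mp h0
      omega
    obtain rfl : n = 2 := by omega
    obtain rfl : n' = 2 := by omega
    simp [kinds]
  · obtain rfl : n = 3 := by omega
    obtain rfl : n' = 3 := by omega
    simp [kinds]

theorem row_cases {D n n' X Y : ℤ} (hk : (D, n, n') ∈ kinds) (hT : (D, n, n') ≠ (3, 3, 3))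
    (hX : (4 * X - D) ^ 2 ≤ 3 * (4 * n - D ^ 2)) (hY : (4 * Y - D) ^ 2 ≤ 11 * (4 * n' - D ^ 2))
    (hZ : (4 * X + 4 * Y - D) ^ 2 ≤ 16 - 4 * n - 4 * n' + D ^ 2) :
    (D, n, n', X, Y) ∈ rowTypes := by
  simp only [kinds, Finset.mem_insert, Finset.mem_singleton, Prod.mk.injEq] at hk
  rcases hk with ⟨rfl, rfl, rfl⟩ | ⟨rfl, rfl, rfl⟩ | ⟨rfl, rfl, rfl⟩ | ⟨rfl, rfl, rfl⟩ |
      ⟨rfl, rfl, rfl⟩
  all_goals first | exact absurd rfl hT | skip
  all_goals
    have : -1 ≤ X := by nlinarith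
    have : X ≤ 1 := by nlinarith
    have : -2 ≤ Y := by nlinarith
    have : Y ≤ 3 := by nlinarith
    interval_cases X <;> interval_cases Y <;> first | decide | (revert hX; norm_num; done) | (revert hY; norm_num; done) | (revert hZ; norm_num; done)

variable {ι : Type*} [Fintype ι] [DecidableEq ι]

/-- Sums of a function of a key are sums over the keys. -/
theorem sum_key {κ : Type*} [DecidableEq κ] (K : Finset κ) (τ : ι → κ) (hτ : ∀ j, τ j ∈ K)
    (φ : κ → ℤ) :
    ∑ j, φ (τ j) = ∑ t ∈ K, (((Finset.univ.filter fun j => τ j = t).card : ℤ)) * φ t := by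
  rw [← Finset.sum_fiberwise_of_maps_to (g := τ) (t := K) (fun j _ => hτ j)]
  refine Finset.sum_congr rfl fun t _ => ?_
  rw [Finset.sum_congr rfl (g := fun _ => φ t) fun j hj => by rw [(Finset.mem_filter.mp hj).2],
    Finset.sum_const, nsmul_eq_mul]

/-- The hypotheses on the two matrices. -/
structure Data (N N' : ι → ι → ℤ) (d : ι → ℤ) : Prop where
  symm : ∀ i j, N i j = N j i
  symm' : ∀ i j, N' i j = N' j i
  sq : ∀ i k, ∑ j, N i j * N j k = 4 * N i k
  sq' : ∀ i k, ∑ j, N' i j * N' j k = 4 * N' i k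
  mul : ∀ i k, ∑ j, N i j * N' j k = d i * d k
  sum_d : ∑ i, d i ^ 2 = 16
  sum_N : ∑ i, N i i = 16
  sum_N' : ∑ i, N' i i = 16
  d_ne : ∀ i, d i ≠ 0
  odd : ∀ i, Odd (d i) → Odd (N i i)
  odd' : ∀ i, Odd (d i) → Odd (N' i i)
  pos : ∀ i, d i ^ 2 ≤ 4 * N i i
  pos' : ∀ i, d i ^ 2 ≤ 4 * N' i i
  lt : ∀ i, 4 * N i i + 4 * N' i i - d i ^ 2 < 16
  cs : ∀ i j, (4 * N i j - d i * d j) ^ 2 ≤ (4 * N i i - d i ^ 2) * (4 * N j j - d j ^ 2)
  cs' : ∀ i j, (4 * N' i j - d i * d j) ^ 2 ≤ (4 * N' i i - d i ^ 2) * (4 * N' j j - d j ^ 2)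
  cs₁ : ∀ i j, i ≠ j → (4 * N i j + 4 * N' i j - d i * d j) ^ 2 ≤
    (16 - 4 * N i i - 4 * N' i i + d i ^ 2) * (16 - 4 * N j j - 4 * N' j j + d j ^ 2)
  one : ∃ i, d i = 1

variable {N N' : ι → ι → ℤ} {d : ι → ℤ}

namespace Data

theorem mul_d (h : Data N N' d) (i : ι) : ∑ j, N i j * d j = 4 * d i := by
  refine mul_right_cancel₀ (h.d_ne i) ?_
  rw [Finset.sum_mul, mul_assoc, ← h.mul i i, Finset.mul_sum]
  calc ∑ j, N i j * d j * d i = ∑ j, N i j * ∑ l, N j l * N' l i :=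
        Finset.sum_congr rfl fun j _ => by rw [h.mul, mul_assoc]
    _ = ∑ l, (∑ j, N i j * N j l) * N' l i := by
        simp only [Finset.mul_sum, Finset.sum_mul, mul_assoc]
        rw [Finset.sum_comm]
    _ = _ := Finset.sum_congr rfl fun l _ => by rw [h.sq, mul_assoc]

theorem mul_d' (h : Data N N' d) (i : ι) : ∑ j, N' i j * d j = 4 * d i := by
  have hsw : ∀ i k, ∑ j, N' i j * N j k = d i * d k := fun i k => by
    rw [mul_comm, ← h.mul k i]
    exact Finset.sum_congr rfl fun j _ => by rw [h.symm' i j, h.symm j k, mul_comm]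
  refine mul_right_cancel₀ (h.d_ne i) ?_
  rw [Finset.sum_mul, mul_assoc, ← hsw i i, Finset.mul_sum]
  calc ∑ j, N' i j * d j * d i = ∑ j, N' i j * ∑ l, N' j l * N l i :=
        Finset.sum_congr rfl fun j _ => by rw [hsw, mul_assoc]
    _ = ∑ l, (∑ j, N' i j * N' j l) * N l i := by
        simp only [Finset.mul_sum, Finset.sum_mul, mul_assoc]
        rw [Finset.sum_comm]
    _ = _ := Finset.sum_congr rfl fun l _ => by rw [h.sq', mul_assoc]

theorem kind_mem (h : Data N N' d) (j : ι) : (|d j|, N j j, N' j j) ∈ kinds := by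
  obtain ⟨i₀, hi₀⟩ := h.one
  have hb : 4 * N i₀ i₀ - d i₀ ^ 2 ≤ 16 := by
    nlinarith [h.lt i₀, h.pos' i₀]
  have hb' : 4 * N' i₀ i₀ - d i₀ ^ 2 ≤ 16 := by
    nlinarith [h.lt i₀, h.pos i₀]
  have c : (4 * N j i₀ - d j) ^ 2 ≤ (4 * N j j - d j ^ 2) * 16 := by
    have := h.cs j i₀
    rw [hi₀, mul_one] at this
    refine this.trans (mul_le_mul_of_nonneg_left ?_ (by linarith [h.pos j]))
    rw [hi₀] at hb
    exact hb
  have c' : (4 * N' j i₀ - d j) ^ 2 ≤ (4 * N' j j - d j ^ 2) * 16 := by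
    have := h.cs' j i₀
    rw [hi₀, mul_one] at this
    refine this.trans (mul_le_mul_of_nonneg_left ?_ (by linarith [h.pos' j]))
    rw [hi₀] at hb'
    exact hb'
  rcases lt_or_gt_of_ne (h.d_ne j) with hd | hd
  · rw [abs_of_neg hd]
    refine kind_cases (z := -N j i₀) (z' := -N' j i₀) (neg_pos.mpr hd) (by rw [neg_sq]; exact h.pos j)
      (by rw [neg_sq]; exact h.pos' j) (by rw [neg_sq]; exact h.lt j)
      (fun e => h.odd j (odd_neg.mp e)) (fun e => h.odd' j (odd_neg.mp e)) ?_ ?_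
    · convert c using 1 <;> ring
    · convert c' using 1 <;> ring
  · rw [abs_of_pos hd]
    exact kind_cases hd (h.pos j) (h.pos' j) (h.lt j) (h.odd j) (h.odd' j) c c'

/-- The normalized row at `j` seen from `i`. -/
def key (N N' : ι → ι → ℤ) (d : ι → ℤ) (i j : ι) : ℤ × ℤ × ℤ × ℤ × ℤ :=
  (|d j|, N j j, N' j j, N i j * (d i * (d j).sign), N' i j * (d i * (d j).sign))

theorem key_mem (h : Data N N' d) {i : ι} (hd : |d i| = 1) (hn : N i i = 1) (hn' : N' i i = 3)
    {j : ι} (hT : (|d j|, N j j, N' j j) ≠ (3, 3, 3)) : key N N' d i j ∈ rowTypes := by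
  have hdi : d i ^ 2 = 1 := by rw [← sq_abs, hd, one_pow]
  by_cases hij : i = j
  · subst hij
    have hs : d i * (d i).sign = 1 := by rw [mul_comm, Int.sign_mul_self_eq_abs, hd]
    simp [key, hd, hn, hn', hs, rowTypes]
  · set s := d i * (d j).sign with hs_def
    have hs : s ^ 2 = 1 := by
      rw [hs_def, mul_pow, hdi, one_mul]
      rcases lt_or_gt_of_ne (h.d_ne j) with hj | hj
      · rw [Int.sign_eq_neg_one_of_neg hj]; norm_num
      · rw [Int.sign_eq_one_of_pos hj]; norm_num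
    have ha : |d j| = d i * d j * s := by
      rw [hs_def, show d i * d j * (d i * (d j).sign) = d i ^ 2 * ((d j).sign * d j) by ring, hdi,
        one_mul, Int.sign_mul_self_eq_abs]
    refine row_cases (h.kind_mem j) hT ?_ ?_ ?_ <;> rw [sq_abs]
    · have := h.cs i j
      rw [hdi, hn] at this
      calc (4 * (N i j * s) - |d j|) ^ 2 = (4 * N i j - d i * d j) ^ 2 * s ^ 2 := by rw [ha]; ring
        _ ≤ _ := by rw [hs, mul_one]; linarith
    · have := h.cs' i j
      rw [hdi, hn'] at this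
      calc (4 * (N' i j * s) - |d j|) ^ 2 = (4 * N' i j - d i * d j) ^ 2 * s ^ 2 := by rw [ha]; ring
        _ ≤ _ := by rw [hs, mul_one]; linarith
    · have := h.cs₁ i j hij
      rw [hdi, hn, hn'] at this
      calc (4 * (N i j * s) + 4 * (N' i j * s) - |d j|) ^ 2 =
          (4 * N i j + 4 * N' i j - d i * d j) ^ 2 * s ^ 2 := by rw [ha]; ring
        _ ≤ _ := by rw [hs, mul_one]; linarith

set_option maxHeartbeats 2000000 in
/-- There are sixteen or eight indices. -/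
theorem card_eq (h : Data N N' d) : Fintype.card ι = 16 ∨ Fintype.card ι = 8 := by
  classical
  let κ : ι → ℤ × ℤ × ℤ := fun j => (|d j|, N j j, N' j j)
  have hκ : ∀ j, κ j ∈ kinds := h.kind_mem
  have e1 := sum_key kinds κ hκ (fun t => t.1 ^ 2)
  have e2 := sum_key kinds κ hκ (fun t => t.2.1)
  have e3 := sum_key kinds κ hκ (fun t => t.2.2)
  have e4 := sum_key kinds κ hκ (fun _ => 1)
  simp only [κ, sq_abs, h.sum_d] at e1
  simp only [κ, h.sum_N] at e2
  simp only [κ, h.sum_N'] at e3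
  simp only [Finset.sum_const, Finset.card_univ, nsmul_eq_mul, mul_one] at e4
  simp [kinds] at e1 e2 e3 e4
  simp only [κ, Prod.mk.injEq] at e4
  by_contra hne
  have hT : (Finset.univ.filter fun j => κ j = (3, 3, 3)).card = 0 := by
    simp only [κ, Prod.mk.injEq]; omega
  have hV : 0 < (Finset.univ.filter fun j => κ j = (1, 1, 3)).card := by
    simp only [κ, Prod.mk.injEq]; omega
  have hH : 0 < (Finset.univ.filter fun j => κ j = (2, 2, 2)).card := by
    simp only [κ, Prod.mk.injEq]; omega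
  obtain ⟨i, hi⟩ := Finset.card_pos.mp hV
  have hi' := (Finset.mem_filter.mp hi).2
  simp only [κ, Prod.mk.injEq] at hi'
  obtain ⟨hd, hn, hn'⟩ := hi'
  have hdi : d i ^ 2 = 1 := by rw [← sq_abs, hd, one_pow]
  let τ := Data.key N N' d i
  have hτ : ∀ j, τ j ∈ rowTypes := fun j => h.key_mem hd hn hn' fun e => by
    rw [Finset.card_eq_zero, Finset.filter_eq_empty_iff] at hT
    exact hT (Finset.mem_univ j) e
  have hsgn : ∀ j, (d j).sign * |d j| = d j := fun j => Int.sign_mul_abs (d j)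
  have hssq : ∀ j, (d j).sign ^ 2 = 1 := fun j => by
    rcases lt_or_gt_of_ne (h.d_ne j) with hj | hj
    · rw [Int.sign_eq_neg_one_of_neg hj]; norm_num
    · rw [Int.sign_eq_one_of_pos hj]; norm_num
  have f1 : ∑ j, (τ j).1 ^ 2 = 16 := by simp [τ, Data.key, sq_abs, h.sum_d]
  have f2 : ∑ j, (τ j).2.1 = 16 := by simp [τ, Data.key, h.sum_N]
  have f3 : ∑ j, (τ j).2.2.1 = 16 := by simp [τ, Data.key, h.sum_N']
  have f4 : ∑ j, (τ j).2.2.2.1 ^ 2 = 4 := by
    rw [show (4 : ℤ) = 4 * N i i by rw [hn]; ring, ← h.sq i i]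
    refine Finset.sum_congr rfl fun j _ => ?_
    simp only [τ, Data.key]
    linear_combination N i j ^ 2 * (d j).sign ^ 2 * hdi + N i j ^ 2 * hssq j + N i j * h.symm i j
  have f5 : ∑ j, (τ j).2.2.2.2 ^ 2 = 12 := by
    rw [show (12 : ℤ) = 4 * N' i i by rw [hn']; ring, ← h.sq' i i]
    refine Finset.sum_congr rfl fun j _ => ?_
    simp only [τ, Data.key]
    linear_combination N' i j ^ 2 * (d j).sign ^ 2 * hdi + N' i j ^ 2 * hssq j + N' i j * h.symm' i j
  have f6 : ∑ j, (τ j).2.2.2.1 * (τ j).2.2.2.2 = 1 := by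
    rw [show (1 : ℤ) = d i * d i by rw [← pow_two, hdi], ← h.mul i i]
    refine Finset.sum_congr rfl fun j _ => ?_
    simp only [τ, Data.key]
    linear_combination N i j * N' i j * (d j).sign ^ 2 * hdi + N i j * N' i j * hssq j +
      N i j * h.symm' i j
  have f7 : ∑ j, (τ j).2.2.2.1 * (τ j).1 = 4 := by
    rw [show (4 : ℤ) = d i * (4 * d i) by linear_combination -4 * hdi, ← h.mul_d i, Finset.mul_sum]
    refine Finset.sum_congr rfl fun j _ => ?_
    simp only [τ, Data.key]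
    linear_combination N i j * d i * hsgn j
  have f8 : ∑ j, (τ j).2.2.2.2 * (τ j).1 = 4 := by
    rw [show (4 : ℤ) = d i * (4 * d i) by linear_combination -4 * hdi, ← h.mul_d' i, Finset.mul_sum]
    refine Finset.sum_congr rfl fun j _ => ?_
    simp only [τ, Data.key]
    linear_combination N' i j * d i * hsgn j
  have fH : ∑ j, (if (τ j).1 = 2 then (1 : ℤ) else 0) =
      (Finset.univ.filter fun j => κ j = (2, 2, 2)).card := by
    rw [Finset.sum_boole]
    congr 2
    refine Finset.filter_congr fun j _ => ⟨fun e => ?_, fun e => (congrArg Prod.fst e : _)⟩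
    have hk := hκ j
    simp only [kinds, Finset.mem_insert, Finset.mem_singleton, κ, Prod.mk.injEq] at hk ⊢
    simp only [τ, Data.key] at e
    omega
  rw [sum_key rowTypes τ hτ (fun t => t.1 ^ 2)] at f1
  rw [sum_key rowTypes τ hτ (fun t => t.2.1)] at f2
  rw [sum_key rowTypes τ hτ (fun t => t.2.2.1)] at f3
  rw [sum_key rowTypes τ hτ (fun t => t.2.2.2.1 ^ 2)] at f4
  rw [sum_key rowTypes τ hτ (fun t => t.2.2.2.2 ^ 2)] at f5
  rw [sum_key rowTypes τ hτ (fun t => t.2.2.2.1 * t.2.2.2.2)] at f6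
  rw [sum_key rowTypes τ hτ (fun t => t.2.2.2.1 * t.1)] at f7
  rw [sum_key rowTypes τ hτ (fun t => t.2.2.2.2 * t.1)] at f8
  rw [sum_key rowTypes τ hτ (fun t => if t.1 = 2 then (1 : ℤ) else 0)] at fH
  have hself : 0 < (Finset.univ.filter fun j => τ j = (1, 1, 3, 1, 3)).card := by
    refine Finset.card_pos.mpr ⟨i, Finset.mem_filter.mpr ⟨Finset.mem_univ _, ?_⟩⟩
    have hs : d i * (d i).sign = 1 := by rw [mul_comm, Int.sign_mul_self_eq_abs, hd]
    simp [τ, Data.key, hd, hn, hn', hs]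
  simp [rowTypes] at f1 f2 f3 f4 f5 f6 f7 f8 fH
  omega

end Data

end CfsgLib.Blocks.InertiaNine
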