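import Cfsg.Agent.Lib.Blocks.SectionOrth
import Cfsg.Agent.Lib.Blocks.AlperinDade
import Cfsg.Agent.Lib.Blocks.PrincipalQuot
import Cfsg.Agent.Lib.Blocks.Rank
import Cfsg.Agent.Lib.Blocks.AbelianFrobeniusThree
import Cfsg.Agent.Lib.Blocks.RegularCriterion
import Cfsg.Agent.Lib.Transfer.Focal

/-!
# The parts of the scalar product of two members of the principal block on the sections
-/

set_option autoImplicit false
set_option linter.unusedSectionVars false
set_option linter.style.haveILetI false

namespace CfsgLib.Blocks.InertiaNine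

open Cfsg
open scoped ComplexConjugate CfsgLib.Char

variable {M : Ideal AlgInt} {G : Type*} [Group G] [Fintype G]

/-- An element of `2`-power order. -/
def IsTwo (x : G) : Prop := ∃ k : ℕ, orderOf x = 2 ^ k

open Classical in
/-- The part of the scalar product of `f` and `h` on the section of `x`. -/
noncomputable def sectionInner (x : G) (f h : G → ℂ) : ℂ :=
  (Nat.card (Subgroup.centralizer ({x} : Set G)) : ℂ)⁻¹ *
    ∑ s : Subgroup.centralizer ({x} : Set G), regPart 2
      (fun s : Subgroup.centralizer ({x} : Set G) => f (x * (s : G)) * conj (h (x * (s : G)))) s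

theorem exists_int_invol {t : G} (ht : t ^ 2 = 1) (χ : IrrCharacter G) :
    ∃ u : ℤ, (χ : G → ℂ) t = u := by
  by_cases h1 : t = 1
  · obtain ⟨n, -, hn⟩ := Char.exists_nat_degree_irr χ.2
    exact ⟨n, by rw [h1, hn]; rfl⟩
  · haveI : Fact (Nat.Prime 2) := ⟨Nat.prime_two⟩
    exact AbelianFrob.exists_int_value (orderOf_eq_prime ht h1) χ

/-- The sum of a character over a four-group is divisible by four. -/
theorem four_dvd_sum {χ : G → ℂ} (hχ : IsCharacter G χ) {x y : G} (hx : x ^ 2 = 1) (hy : y ^ 2 = 1)
    (hxy : x * y = y * x) : ∃ n : ℕ, χ 1 + χ x + χ y + χ (x * y) = 4 * n := by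
  let f : Multiplicative (ZMod 2 × ZMod 2) →* G :=
    { toFun := fun v => x ^ (Multiplicative.toAdd v).1.val * y ^ (Multiplicative.toAdd v).2.val
      map_one' := by simp
      map_mul' := by
        intro v w
        have hc : Commute x y := hxy
        rw [toAdd_mul, Prod.fst_add, Prod.snd_add, ZMod.val_add, ZMod.val_add,
          ← pow_eq_pow_mod _ hx, ← pow_eq_pow_mod _ hy, pow_add, pow_add,
          mul_assoc, ← mul_assoc (x ^ _) (y ^ _), (hc.pow_pow _ _).eq, mul_assoc, ← mul_assoc] }
  obtain ⟨n, hn⟩ := Char.exists_nat_classInner (Char.isCharacter_comp f hχ)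
    (Char.isCharacter_one (G := Multiplicative (ZMod 2 × ZMod 2)))
  refine ⟨n, ?_⟩
  have hu : (Finset.univ : Finset (Multiplicative (ZMod 2 × ZMod 2))) =
      {Multiplicative.ofAdd (0, 0), Multiplicative.ofAdd (1, 0), Multiplicative.ofAdd (0, 1),
        Multiplicative.ofAdd (1, 1)} := by decide
  have hc : Nat.card (Multiplicative (ZMod 2 × ZMod 2)) = 4 := by simp
  have h00 : f (Multiplicative.ofAdd (0, 0)) = 1 := by simp [f]
  have h10 : f (Multiplicative.ofAdd (1, 0)) = x := by simp [f, ZMod.val_one]
  have h01 : f (Multiplicative.ofAdd (0, 1)) = y := by simp [f, ZMod.val_one]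
  have h11 : f (Multiplicative.ofAdd (1, 1)) = x * y := by simp [f, ZMod.val_one]
  rw [classInner, hc, hu, Finset.sum_insert (by decide), Finset.sum_insert (by decide),
    Finset.sum_insert (by decide), Finset.sum_singleton] at hn
  simp only [h00, h10, h01, h11, map_one, mul_one] at hn
  rw [← hn]
  push_cast
  ring

theorem regular_one {H : Type*} [Group H] : ¬ 2 ∣ orderOf (1 : H) := by
  rw [orderOf_one]; norm_num

/-- Members of the principal block are constant on a section whose centralizer has a normal
`2`-complement. -/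
theorem value_eq_of_npc (hM : IsPModular 2 M) {χ : IrrCharacter G} (hχ : χ ∈ principalBlock M G)
    {x : G} (hx : IsTwo x) (hC : HasNormalPComplement 2 (Subgroup.centralizer ({x} : Set G)))
    {s : Subgroup.centralizer ({x} : Set G)} (hs : ¬ 2 ∣ orderOf s) :
    (χ : G → ℂ) (x * (s : G)) = (χ : G → ℂ) x := by
  classical
  haveI : Fact (Nat.Prime 2) := ⟨Nat.prime_two⟩
  have hv : s ∈ pPrimeCore 2 (Subgroup.centralizer ({x} : Set G)) := by
    rw [Transfer.pPrimeCore_eq_pResidual hC]
    exact Transfer.mem_pResidual_of_coprime (Nat.prime_two.coprime_iff_not_dvd.mpr hs).symm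
  have h := value_mul_pPrimeCore (M := M) hM hx hχ (y := 1) (v := s) regular_one
    (by rwa [one_mul]) hv
  simpa using h

theorem trivial_of_npc {H : Type*} [Group H] [Fintype H] (hM : IsPModular 2 M)
    (hC : HasNormalPComplement 2 H) {ξ : IrrCharacter H} (hξ : ξ ∈ principalBlock M H) {s : H}
    (hs : ¬ 2 ∣ orderOf s) : (ξ : H → ℂ) s = (ξ : H → ℂ) 1 := by
  haveI : Fact (Nat.Prime 2) := ⟨Nat.prime_two⟩
  have := Transfer.pResidual_normal 2 H
  exact trivial_on_of_mem_principalBlock hM _ (Transfer.hasNormalPComplement_iff_pResidual.mp hC)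
    hξ s (Transfer.mem_pResidual_of_coprime (Nat.prime_two.coprime_iff_not_dvd.mpr hs).symm)

/-- The number of regular elements of a group with a normal `2`-complement. -/
theorem card_regular_npc {H : Type*} [Group H] [Fintype H]
    [DecidablePred fun s : H => IsPRegular 2 s]
    (hC : HasNormalPComplement 2 H) (P : Sylow 2 H) :
    (Finset.univ.filter fun s : H => IsPRegular 2 s).card * Nat.card P = Nat.card H := by
  classical
  haveI : Fact (Nat.Prime 2) := ⟨Nat.prime_two⟩
  haveI := Transfer.pResidual_normal 2 H
  have hcop : (Nat.card (pResidual 2 H)).Coprime 2 :=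
    (Nat.prime_two.coprime_iff_not_dvd.mpr (Transfer.hasNormalPComplement_iff_pResidual.mp hC)).symm
  have hq : IsPGroup 2 (H ⧸ pResidual 2 H) := Transfer.isPGroup_quotient_pResidual
  have hc := Transfer.isComplement'_sylow hcop hq P
  rw [← hc.card_mul, Nat.card_eq_fintype_card (α := pResidual 2 H), Fintype.card_subtype]
  congr 2
  refine Finset.filter_congr fun s _ => ?_
  rw [Transfer.mem_iff_coprime_orderOf hcop hq, Nat.coprime_comm,
    Nat.prime_two.coprime_iff_not_dvd]
  rfl

theorem blockRank_principal_of_npc {H : Type*} [Group H] [Fintype H] (hM : IsPModular 2 M)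
    (hC : HasNormalPComplement 2 H) (P : Sylow 2 H) : blockRank 2 (principalBlock M H) = 1 := by
  classical
  have := isPrime_of_isPModular hM
  have h := card_mul_blockRank hM (IsPBlock.isBlockUnion (isPBlock_principalBlock (M := M) (G := H)))
  have hval : ∀ s : H, ∑ᶠ χ ∈ principalBlock M H, regPart 2 (χ : H → ℂ) s * conj ((χ : H → ℂ) s) =
      if IsPRegular 2 s then (Nat.card P : ℂ) else 0 := by
    intro s
    by_cases hs : IsPRegular 2 s
    · rw [if_pos hs, sum_mem_eq_filter]
      have h2 := congrArg (fun n : ℕ => (n : ℂ)) (sum_sq_degree_principal_of_npc hM hC P)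
      rw [finsum_mem_eq_sum_of_inter_support_eq _ (t := Finset.univ.filter (· ∈ principalBlock M H)) (by simp),
        Nat.cast_sum] at h2
      rw [← h2]
      refine Finset.sum_congr rfl fun χ hχ => ?_
      rw [regPart_of_regular hs, trivial_of_npc hM hC (Finset.mem_filter.mp hχ).2 hs,
        Nat.cast_pow, ← (irr_degree_eq χ).1]
      obtain ⟨n, -, hn⟩ := Char.exists_nat_degree_irr χ.2
      rw [hn, map_natCast, sq]
    · rw [if_neg hs, sum_mem_eq_filter]
      exact Finset.sum_eq_zero fun χ _ => by rw [regPart_of_singular hs, zero_mul]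
  rw [Finset.sum_congr rfl fun s _ => hval s, ← Finset.sum_filter, Finset.sum_const,
    nsmul_eq_mul, ← Nat.cast_mul, ← Nat.cast_mul, Nat.cast_inj, card_regular_npc hC P] at h
  exact Nat.eq_of_mul_eq_mul_left Nat.card_pos (by rw [h, mul_one])

theorem sectionInner_conj (x : G) (f h : G → ℂ) :
    conj (sectionInner x f h) = sectionInner x h f := by
  classical
  simp only [sectionInner, map_mul, map_inv₀, map_natCast, map_sum]
  congr 1
  refine Finset.sum_congr rfl fun s _ => ?_
  by_cases hs : IsPRegular 2 s
  · rw [regPart_of_regular hs, regPart_of_regular hs, map_mul, Complex.conj_conj, mul_comm]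
  · rw [regPart_of_singular hs, regPart_of_singular hs, map_zero]

open Classical in
/-- The indicator of the section of `x`. -/
noncomputable def sectionInd (x : G) (g : G) : ℂ :=
  if ∃ y : G, IsPPart 2 g y ∧ IsConj y x then 1 else 0

theorem isClassFunction_sectionInd (x : G) : IsClassFunction G (sectionInd x) := by
  classical
  intro g h
  simp only [sectionInd]
  refine if_congr ⟨fun ⟨y, hy, hc⟩ => ⟨h⁻¹ * y * h, ?_, ?_⟩, fun ⟨y, hy, hc⟩ => ⟨h * y * h⁻¹, ?_, ?_⟩⟩ rfl rfl
  · have e := IsPPart.conj hy h⁻¹
    simpa [mul_assoc] using e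
  · exact (isConj_iff.mpr ⟨h, by group⟩ : IsConj (h⁻¹ * y * h) y).trans hc
  · exact IsPPart.conj hy h
  · exact (isConj_iff.mpr ⟨h⁻¹, by group⟩ : IsConj (h * y * h⁻¹) y).trans hc

/-- Representatives of the classes of `2`-elements. -/
structure Reps (X : Finset G) : Prop where
  two : ∀ x ∈ X, IsTwo x
  rep : ∀ g : G, IsTwo g → ∃! x, x ∈ X ∧ IsConj g x

variable {X : Finset G}

theorem classInner_eq_sum (hX : Reps X) {f h : G → ℂ} (hf : IsClassFunction G f)
    (hh : IsClassFunction G h) : classInner f h = ∑ x ∈ X, sectionInner x f h := by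
  classical
  have hF : IsClassFunction G fun g => f g * conj (h g) := fun g a => by
    show f _ * conj (h _) = f g * conj (h g)
    rw [hf, hh]
  rw [classInner, sum_eq_sum_sections Nat.prime_two hF X hX.two hX.rep, Finset.mul_sum]
  refine Finset.sum_congr rfl fun x _ => ?_
  rw [finsum_eq_sum_of_fintype, sectionInner, div_eq_mul_inv, ← mul_assoc, ← mul_assoc,
    inv_mul_cancel₀ (Nat.cast_ne_zero.mpr Nat.card_pos.ne'), one_mul]

open Classical in
theorem sectionInner_sectionInd (hX : Reps X) {x y : G} (hx : x ∈ X) (hy : y ∈ X) (f h : G → ℂ) :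
    sectionInner y (fun g => sectionInd x g * f g) h = if x = y then sectionInner y f h else 0 := by
  classical
  have key : ∀ s : Subgroup.centralizer ({y} : Set G), IsPRegular 2 s →
      sectionInd x (y * (s : G)) = if x = y then 1 else 0 := by
    intro s hs
    have hp : IsPPart 2 (y * (s : G)) y :=
      isPPart_mul (Subgroup.mem_centralizer_singleton_iff.mp s.2).symm (hX.two y hy)
        (by rwa [Subgroup.orderOf_coe])
    simp only [sectionInd]
    refine if_congr ⟨fun ⟨z, hz, hc⟩ => ?_, fun e => ⟨y, hp, e ▸ IsConj.refl y⟩⟩ rfl rfl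
    rw [IsPPart.unique Nat.prime_two hz hp] at hc
    exact ((hX.rep y (hX.two y hy)).unique ⟨hx, hc⟩ ⟨hy, IsConj.refl y⟩)
  by_cases hxy : x = y
  · rw [if_pos hxy, sectionInner, sectionInner]
    congr 1
    refine Finset.sum_congr rfl fun s _ => ?_
    by_cases hs : IsPRegular 2 s
    · rw [regPart_of_regular hs, regPart_of_regular hs, key s hs, if_pos hxy, one_mul]
    · rw [regPart_of_singular hs, regPart_of_singular hs]
  · rw [if_neg hxy, sectionInner, Finset.sum_eq_zero, mul_zero]
    intro s _
    by_cases hs : IsPRegular 2 s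
    · rw [regPart_of_regular hs, key s hs, if_neg hxy, zero_mul, zero_mul]
    · rw [regPart_of_singular hs]

theorem classInner_sectionInd (hX : Reps X) {x : G} (hx : x ∈ X) {f h : G → ℂ}
    (hf : IsClassFunction G f) (hh : IsClassFunction G h) :
    classInner (fun g => sectionInd x g * f g) h = sectionInner x f h := by
  classical
  rw [classInner_eq_sum hX (fun g a => by
      show sectionInd x _ * f _ = sectionInd x g * f g
      rw [isClassFunction_sectionInd x g a, hf g a]) hh,
    Finset.sum_congr rfl fun y hy => sectionInner_sectionInd hX hx hy f h, Finset.sum_ite_eq,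
    if_pos hx]

/-- The sum over the sections is the scalar product. -/
theorem sum_sectionInner (hX : Reps X) (χ ψ : IrrCharacter G) :
    ∑ x ∈ X, sectionInner x (χ : G → ℂ) (ψ : G → ℂ) = if χ = ψ then 1 else 0 := by
  rw [← classInner_eq_sum hX (irr_classFunction χ) (irr_classFunction ψ), Char.classInner_coe]

/-- Members of other blocks are orthogonal to the principal block on every section. -/
theorem sectionInner_eq_zero (hM : IsPModular 2 M) {x : G} (hx : IsTwo x) {χ ψ : IrrCharacter G}
    (hχ : χ ∈ principalBlock M G) (hψ : ψ ∉ principalBlock M G) :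
    sectionInner x (χ : G → ℂ) (ψ : G → ℂ) = 0 := by
  classical
  have := isPrime_of_isPModular hM
  set b₀ := principalBlock M (Subgroup.centralizer ({x} : Set G))
  set e := blockOf M (ψ : G → ℂ)
  set S := (blocks M (Subgroup.centralizer ({x} : Set G))).filter fun b =>
    IsInducedBlock M (Subgroup.centralizer ({x} : Set G)) b e
  have hS : ∀ b, b ∈ S ↔ IsInducedBlock M (Subgroup.centralizer ({x} : Set G)) b e := fun b => by
    simp only [S, Finset.mem_filter, mem_blocks]
    exact ⟨fun h => h.2, fun h => ⟨h.1, h⟩⟩
  have hne : ∀ b ∈ S, b ≠ b₀ := fun b hb he => hψ (by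
    have h0 : IsInducedBlock M (Subgroup.centralizer ({x} : Set G)) b₀ (principalBlock M G) :=
      (isInducedBlock_centralizer_principal_iff hM hx _).mpr rfl
    rw [IsInducedBlock.unique h0 (he ▸ (hS b).mp hb)]
    exact mem_blockOf_self ψ)
  set θ : G → Subgroup.centralizer ({x} : Set G) → ℂ :=
    fun _ c => (χ : G → ℂ) (x * (c : G))
  set θ' : Subgroup.centralizer ({x} : Set G) → ℂ := fun c => (ψ : G → ℂ) (x * (c : G))
  have hb0 : IsBlockUnion M b₀ := IsPBlock.isBlockUnion isPBlock_principalBlock
  rw [sectionInner, mul_eq_zero]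
  right
  calc ∑ s : Subgroup.centralizer ({x} : Set G), regPart 2 (fun s : Subgroup.centralizer ({x} : Set G) =>
        (χ : G → ℂ) (x * (s : G)) * conj ((ψ : G → ℂ) (x * (s : G)))) s
      = ∑ s : Subgroup.centralizer ({x} : Set G), ∑ b ∈ S,
          regPart 2 (blockPart b₀ (θ 1)) s * conj (blockPart b θ' s) := by
        refine Finset.sum_congr rfl fun s _ => ?_
        by_cases hs : IsPRegular 2 s
        · rw [regPart_of_regular hs, value_eq_principal_blockPart hM hx hχ hs,
            value_eq_sum_inducing_blocks hM hx (isPBlock_blockOf ψ) (mem_blockOf_self ψ) hs S hS,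
            map_sum, Finset.mul_sum]
          exact Finset.sum_congr rfl fun b _ => by rw [regPart_of_regular hs]
        · rw [regPart_of_singular hs]
          exact (Finset.sum_eq_zero fun b _ => by rw [regPart_of_singular hs, zero_mul]).symm
    _ = ∑ b ∈ S, (Nat.card (Subgroup.centralizer ({x} : Set G)) : ℂ) *
          classInner (regPart 2 (blockPart b₀ (θ 1))) (blockPart b θ') := by
        rw [Finset.sum_comm]
        refine Finset.sum_congr rfl fun b _ => ?_
        rw [classInner, ← mul_assoc, mul_inv_cancel₀ (Nat.cast_ne_zero.mpr Nat.card_pos.ne'), one_mul]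
    _ = 0 := Finset.sum_eq_zero fun b hb => by
        suffices h : classInner (regPart 2 (blockPart b₀ (θ 1))) (blockPart b θ') = 0 by
          rw [h, mul_zero]
        have e1 : regPart 2 (blockPart b₀ (θ 1)) =
            ∑ ξ : IrrCharacter (Subgroup.centralizer ({x} : Set G)) with ξ ∈ b₀,
              classInner (θ 1) (ξ : _ → ℂ) • regPart 2 (ξ : _ → ℂ) := by
          funext s
          rw [Finset.sum_apply]
          by_cases hs : IsPRegular 2 s
          · rw [regPart_of_regular hs, blockPart_eq_filter]
            exact Finset.sum_congr rfl fun ξ _ => by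
              rw [Pi.smul_apply, smul_eq_mul, regPart_of_regular hs]
          · rw [regPart_of_singular hs]
            exact (Finset.sum_eq_zero fun ξ _ => by
              rw [Pi.smul_apply, regPart_of_singular hs, smul_zero]).symm
        have e2 : blockPart b θ' =
            ∑ η : IrrCharacter (Subgroup.centralizer ({x} : Set G)) with η ∈ b,
              classInner θ' (η : _ → ℂ) • (η : _ → ℂ) := by
          funext s
          rw [Finset.sum_apply, blockPart_eq_filter]
          exact Finset.sum_congr rfl fun ξ _ => by rw [Pi.smul_apply, smul_eq_mul]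
        rw [e1, e2, Char.classInner_sum_left]
        refine Finset.sum_eq_zero fun ξ hξ => ?_
        rw [Char.classInner_smul_left, Char.classInner_sum_right, Finset.sum_eq_zero, mul_zero]
        intro η hη
        rw [Char.classInner_smul_right, classInner_regPart_eq_zero hM hb0 (Finset.mem_filter.mp hξ).2,
          mul_zero]
        intro hη0
        exact hne b hb (IsPBlock.eq_of_mem_of_mem ((hS b).mp hb).1 isPBlock_principalBlock
          (Finset.mem_filter.mp hη).2 hη0)

open Classical in
/-- The parts of the scalar products on two sections multiply like orthogonal projections. -/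
theorem sum_sectionInner_mul (hM : IsPModular 2 M) (hX : Reps X)
    [DecidablePred (· ∈ principalBlock M G)] {x y : G} (hx : x ∈ X) (hy : y ∈ X)
    {χ φ : IrrCharacter G} (hχ : χ ∈ principalBlock M G) :
    ∑ ψ : IrrCharacter G with ψ ∈ principalBlock M G,
        sectionInner x (χ : G → ℂ) (ψ : G → ℂ) * sectionInner y (ψ : G → ℂ) (φ : G → ℂ) =
      if x = y then sectionInner x (χ : G → ℂ) (φ : G → ℂ) else 0 := by
  classical
  have hc : ∀ (z : G) (η : IrrCharacter G),
      IsClassFunction G fun g => sectionInd z g * (η : G → ℂ) g := fun z η g a => by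
    show sectionInd z _ * (η : G → ℂ) _ = sectionInd z g * (η : G → ℂ) g
    rw [isClassFunction_sectionInd z g a, irr_classFunction η g a]
  set F : G → ℂ := fun g => sectionInd x g * (χ : G → ℂ) g
  set F' : G → ℂ := fun g => sectionInd y g * (φ : G → ℂ) g
  have hexp : F = ∑ ψ : IrrCharacter G with ψ ∈ principalBlock M G,
      sectionInner x (χ : G → ℂ) (ψ : G → ℂ) • (ψ : G → ℂ) := by
    show (fun g => sectionInd x g * (χ : G → ℂ) g) = _
    conv_lhs => rw [Char.classFunction_expansion (hc x χ)]
    refine (Finset.sum_subset (Finset.subset_univ _) fun ψ _ hψ => ?_).symm.trans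
      (Finset.sum_congr rfl fun ψ _ => ?_)
    · rw [classInner_sectionInd hX hx (irr_classFunction χ) (irr_classFunction ψ),
        sectionInner_eq_zero hM (hX.two x hx) hχ (by simpa using hψ), zero_smul]
    · rw [classInner_sectionInd hX hx (irr_classFunction χ) (irr_classFunction ψ)]
  have h1 : classInner F F' = ∑ ψ : IrrCharacter G with ψ ∈ principalBlock M G,
      sectionInner x (χ : G → ℂ) (ψ : G → ℂ) * sectionInner y (ψ : G → ℂ) (φ : G → ℂ) := by
    rw [hexp, Char.classInner_sum_left]
    refine Finset.sum_congr rfl fun ψ _ => ?_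
    rw [Char.classInner_smul_left, ← Char.classInner_conj_symm F',
      classInner_sectionInd hX hy (irr_classFunction φ) (irr_classFunction ψ), sectionInner_conj]
  rw [← h1, classInner_sectionInd hX hx (irr_classFunction χ) (hc y φ),
    ← sectionInner_conj x F' (χ : G → ℂ), sectionInner_sectionInd hX hy hx]
  by_cases hxy : x = y
  · rw [if_pos hxy.symm, if_pos hxy, sectionInner_conj]
  · rw [if_neg (Ne.symm hxy), if_neg hxy, map_zero]

/-- The trace is the rank of the principal block of the centralizer. -/
theorem sum_sectionInner_self (hM : IsPModular 2 M) [DecidablePred (· ∈ principalBlock M G)]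
    {x : G} (hx : IsTwo x) :
    ∑ χ : IrrCharacter G with χ ∈ principalBlock M G, sectionInner x (χ : G → ℂ) (χ : G → ℂ) =
      (blockRank 2 (principalBlock M (Subgroup.centralizer ({x} : Set G))) : ℂ) := by
  classical
  have := isPrime_of_isPModular hM
  have hc : (Nat.card (Subgroup.centralizer ({x} : Set G)) : ℂ) ≠ 0 :=
    Nat.cast_ne_zero.mpr Nat.card_pos.ne'
  apply mul_left_cancel₀ hc
  rw [card_mul_blockRank hM (IsPBlock.isBlockUnion isPBlock_principalBlock), Finset.mul_sum]
  simp only [sectionInner, ← mul_assoc, mul_inv_cancel₀ hc, one_mul]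
  rw [Finset.sum_comm]
  refine Finset.sum_congr rfl fun s _ => ?_
  by_cases hs : IsPRegular 2 s
  · simp only [regPart_of_regular hs]
    rw [sum_block_mul_conj_section hM hx isPBlock_principalBlock hs hs
      {principalBlock M (Subgroup.centralizer ({x} : Set G))} (fun b => by
        rw [Finset.mem_singleton, isInducedBlock_centralizer_principal_iff hM hx]),
      Finset.sum_singleton]
  · simp [regPart_of_singular hs]

end CfsgLib.Blocks.InertiaNine
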