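import Cfsg.Agent.Lib.Blocks.InertiaNine.Orbits
import Cfsg.Agent.Lib.Blocks.InertiaNine.Central
import Cfsg.Agent.Lib.Blocks.SectionContribution

/-!
# The contributions of the centralizer of a point with a stabilizer of order three

The centralizer `H` of such a point `a` has a normal subgroup of index four meeting the Sylow
subgroup in the four-group `B`; this gives the values of `16` times the parts of the scalar
products on the section of `a`.
-/

set_option autoImplicit false
set_option linter.unusedSectionVars false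
set_option linter.style.haveILetI false

namespace CfsgLib.Blocks.InertiaNine

open Cfsg
open scoped ComplexConjugate CfsgLib.Char commutatorElement

theorem Orbits.swap {V : Type*} [Group V] [Finite V] {E : Subgroup (MulAut V)} {A B : Subgroup V}
    {a b : V} (h : Orbits E A B a b) (hc : a * b = b * a) : Orbits E B A b a where
  cardA := h.cardB
  cardB := h.cardA
  inf_eq := by rw [inf_comm, h.inf_eq]
  ha := h.hb
  hb := h.ha
  ha1 := h.hb1
  hb1 := h.ha1
  mapA := h.mapB
  mapB := h.mapA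
  orbA := h.orbB
  orbB := h.orbA
  orbC := fun x h1 h2 => hc ▸ h.orbC x h2 h1
  free := hc ▸ h.free
  fixA := h.fixB
  fixB := h.fixA
  moveA := h.moveB
  moveB := h.moveA
  genA := h.genB
  genB := h.genA

variable {M : Ideal AlgInt} {G : Type*} [Group G] [Fintype G] {P : Sylow 2 G}

/-- An automorphism induced by the normalizer is conjugation. -/
theorem autG_coe {w : MulAut (P : Subgroup G)} (hw : w ∈ AbelianFrob.autG P) :
    ∃ n ∈ Subgroup.normalizer ((P : Subgroup G) : Set G),
      ∀ y : (P : Subgroup G), ((w y : (P : Subgroup G)) : G) = n * y * n⁻¹ := by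
  obtain ⟨n, rfl⟩ := hw
  exact ⟨n, n.2, fun y => AbelianFrob.normalizerMonoidHom_coe P n y⟩

/-- The centralizer of a point with trivial stabilizer has a normal `2`-complement. -/
theorem npc_of_free (hab : IsMulCommutative (P : Subgroup G)) {c : (P : Subgroup G)}
    (hfree : ∀ w ∈ AbelianFrob.autG P, w c = c → w = 1) :
    HasNormalPComplement 2 (Subgroup.centralizer ({(c : G)} : Set G)) := by
  haveI : Fact (Nat.Prime 2) := ⟨Nat.prime_two⟩
  have hle := AbelianFrob.le_centralizer_singleton P hab c.2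
  refine Transfer.hasNormalPComplement_of_normalizer_le_centralizer (P.subtype hle) fun z hz => ?_
  have hzN : (z : G) ∈ Subgroup.normalizer ((P : Subgroup G) : Set G) := by
    rw [Subgroup.mem_normalizer_iff]
    intro x
    constructor
    · intro hx
      exact (Subgroup.mem_normalizer_iff.mp hz ⟨x, hle hx⟩).mp hx
    · intro hx
      have hxC : x ∈ Subgroup.centralizer ({(c : G)} : Set G) := by
        have h2 := mul_mem (mul_mem (inv_mem z.2) (hle hx)) z.2
        simpa [mul_assoc] using h2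
      exact (Subgroup.mem_normalizer_iff.mp hz ⟨x, hxC⟩).mpr hx
  have hw := hfree _ ⟨⟨(z : G), hzN⟩, rfl⟩ (Subtype.ext (by
    rw [AbelianFrob.normalizerMonoidHom_coe, mul_inv_eq_iff_eq_mul]
    exact Subgroup.mem_centralizer_singleton_iff.mp z.2))
  rw [← MonoidHom.mem_ker, Subgroup.normalizerMonoidHom_ker, Subgroup.mem_subgroupOf] at hw
  rw [Subgroup.mem_centralizer_iff]
  intro x hx
  exact Subtype.ext (Subgroup.mem_centralizer_iff.mp hw x hx)

/-- The normal subgroup of index four of the centralizer of `a`. -/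
theorem exists_fourKernel (hab : IsMulCommutative (P : Subgroup G))
    (hcard : Nat.card P = 16) (hexp : ∀ x : P, x ^ 2 = 1) (hE : Nat.card (AbelianFrob.autG P) = 9)
    {A B : Subgroup (P : Subgroup G)} {a b : (P : Subgroup G)}
    (hO : Orbits (AbelianFrob.autG P) A B a b) :
    ∃ (K : Subgroup (Subgroup.centralizer ({(a : G)} : Set G)))
      (t : Subgroup.centralizer ({(a : G)} : Set G)),
      FourKernel (P.subtype (AbelianFrob.le_centralizer_singleton P hab a.2)) K t := by
  classical
  haveI : Fact (Nat.Prime 2) := ⟨Nat.prime_two⟩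
  set H := Subgroup.centralizer ({(a : G)} : Set G) with hH
  have hle : (P : Subgroup G) ≤ H := AbelianFrob.le_centralizer_singleton P hab a.2
  set Q : Sylow 2 H := P.subtype hle with hQ
  have hmemQ : ∀ h : H, h ∈ (Q : Subgroup H) ↔ (h : G) ∈ (P : Subgroup G) := fun h => Iff.rfl
  have hQc : ∀ x ∈ (Q : Subgroup H), ∀ y ∈ (Q : Subgroup H), x * y = y * x := fun x hx y hy => by
    haveI := hab
    have h := congrArg Subtype.val
      (mul_comm' (a := (⟨_, hx⟩ : (P : Subgroup G))) (b := ⟨_, hy⟩))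
    exact Subtype.ext h
  have hQab : IsMulCommutative (Q : Subgroup H) :=
    ⟨⟨fun x y => Subtype.ext (hQc x x.2 y y.2)⟩⟩
  have hQe : ∀ x ∈ (Q : Subgroup H), x ^ 2 = 1 := fun x hx =>
    Subtype.ext (congrArg Subtype.val (hexp ⟨_, hx⟩) :)
  -- the odd part of the order
  set v := (Nat.card H).factorization 2
  set m := Nat.card H / 2 ^ v
  have hm : 2 ^ v * m = Nat.card H := Nat.ordProj_mul_ordCompl_eq_self (Nat.card H) 2
  have hmo : Nat.Coprime 2 m := Nat.coprime_ordCompl Nat.prime_two Nat.card_pos.ne'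
  set K : Subgroup H := ((powMonoidHom m).comp (Abelianization.of (G := H))).ker
  have hmemK : ∀ h : H, h ∈ K ↔ Abelianization.of h ^ m = 1 := fun h => Iff.rfl
  have hcomK : commutator H ≤ K := fun h hh => by
    rw [hmemK, MonoidHom.mem_ker.mp (by rwa [Abelianization.ker_of] : h ∈ Abelianization.of.ker),
      one_pow]
  have hpow2 : ∀ h : H, h ^ 2 ^ v ∈ K := fun h => by
    rw [hmemK, map_pow, ← pow_mul, hm, ← map_pow, pow_card_eq_one', map_one]
  have hQK : ∀ h ∈ (Q : Subgroup H), h ∈ K → h ∈ commutator H := fun h hh hk => by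
    rw [← Abelianization.ker_of, MonoidHom.mem_ker, ← orderOf_eq_one_iff]
    refine Nat.eq_one_of_dvd_coprimes hmo (orderOf_dvd_of_pow_eq_one ?_)
      (orderOf_dvd_of_pow_eq_one ((hmemK h).mp hk))
    rw [← map_pow, hQe h hh, map_one]
  -- the focal subgroup
  set B' : Subgroup H := (B.map (P : Subgroup G).subtype).subgroupOf H
  have hmemB : ∀ h : H, h ∈ B' ↔ ∃ hh : (h : G) ∈ (P : Subgroup G), ⟨h, hh⟩ ∈ B := fun h => by
    simp [B', Subgroup.mem_subgroupOf]
  have hfoc : commutator H ⊓ (Q : Subgroup H) ≤ B' := by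
    rw [Subgroup.commutator_inf_eq_focalSubgroup Q, Subgroup.focalSubgroup_def, Subgroup.closure_le]
    rintro g ⟨hg, x, hx, u, rfl⟩
    have hx' : x⁻¹ ∈ (Q : Subgroup H) := inv_mem hx
    have hconj : u * x⁻¹ * u⁻¹ ∈ (Q : Subgroup H) := by
      have := mul_mem hx' hg
      rwa [commutatorElement_def, show x⁻¹ * (x * u * x⁻¹ * u⁻¹) = u * x⁻¹ * u⁻¹ by group] at this
    obtain ⟨n, hn, hne⟩ := Transfer.exists_normalizer_conj_of_isMulCommutative Q hQab hx' u hconj
    have hnG : (n : G) ∈ Subgroup.normalizer ((P : Subgroup G) : Set G) := by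
      rw [Subgroup.mem_normalizer_iff]
      intro y
      constructor
      · intro hy
        exact (Subgroup.mem_normalizer_iff.mp hn ⟨y, hle hy⟩).mp hy
      · intro hy
        have hyC : y ∈ H := by
          have h2 := mul_mem (mul_mem (inv_mem n.2) (hle hy)) n.2
          simpa [mul_assoc] using h2
        exact (Subgroup.mem_normalizer_iff.mp hn ⟨y, hyC⟩).mpr hy
    set w : MulAut (P : Subgroup G) := (P : Subgroup G).normalizerMonoidHom ⟨(n : G), hnG⟩
    have hwa : w a = a := Subtype.ext (by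
      rw [AbelianFrob.normalizerMonoidHom_coe, mul_inv_eq_iff_eq_mul]
      exact Subgroup.mem_centralizer_singleton_iff.mp n.2)
    have hmv := hO.moveA w ⟨_, rfl⟩ hwa ⟨(x⁻¹ : H), hx'⟩
    rw [SetLike.mem_coe, hmemB]
    refine ⟨hg, ?_⟩
    convert hmv using 1
    refine Subtype.ext ?_
    show ((⁅x, u⁆ : H) : G) = _
    have e : (⁅x, u⁆ : H) = (n * x⁻¹ * n⁻¹) * x⁻¹⁻¹ := by
      rw [hne, inv_inv, hQc _ hconj x hx, commutatorElement_def]
      group
    rw [e]
    rfl
  -- a generator fixing `a`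
  obtain ⟨w₀, hw₀, hw₀a, hw₀B⟩ := hO.genA
  obtain ⟨n₀, hn₀, hn₀c⟩ := autG_coe hw₀
  have hn₀H : n₀ ∈ H := by
    rw [hH, Subgroup.mem_centralizer_singleton_iff, ← mul_inv_eq_iff_eq_mul, ← hn₀c, hw₀a]
  have hBle : B' ≤ commutator H := by
    intro h hh
    obtain ⟨hhP, hhB⟩ := (hmemB h).mp hh
    let f : B → B := fun y => ⟨w₀ y * (y : (P : Subgroup G))⁻¹,
      mul_mem (hO.mapB w₀ hw₀ y y.2) (inv_mem y.2)⟩
    have hf : Function.Injective f := fun y z e => by
      have e' : w₀ y * (y : (P : Subgroup G))⁻¹ = w₀ z * (z : (P : Subgroup G))⁻¹ :=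
        congrArg Subtype.val e
      have h1 : w₀ ((z : (P : Subgroup G))⁻¹ * y) = (z : (P : Subgroup G))⁻¹ * y := by
        rw [map_mul, map_inv]
        rw [mul_inv_eq_iff_eq_mul] at e'
        rw [e', ← mul_assoc, ← mul_assoc, inv_mul_cancel, one_mul]
      exact (Subtype.ext (inv_mul_eq_one.mp (hw₀B _ (mul_mem (inv_mem z.2) y.2) h1))).symm
    obtain ⟨y, hy⟩ := (Finite.injective_iff_surjective.mp hf) ⟨_, hhB⟩
    have e : h = ⁅(⟨n₀, hn₀H⟩ : H), ⟨((y : (P : Subgroup G)) : G), hle (y : (P : Subgroup G)).2⟩⁆ := by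
      refine Subtype.ext ?_
      have e2 : ((w₀ y * (y : (P : Subgroup G))⁻¹ : (P : Subgroup G)) : G) = (h : G) :=
        congrArg (fun z : B => ((z : (P : Subgroup G)) : G)) hy
      rw [← e2, Subgroup.coe_mul, hn₀c, commutatorElement_def]
      rfl
    rw [e]
    exact Subgroup.commutator_mem_commutator (Subgroup.mem_top _) (Subgroup.mem_top _)
  have hinf : (Q : Subgroup H) ⊓ K = B' := by
    refine le_antisymm (fun h hh => hfoc ⟨hQK h hh.1 hh.2, hh.1⟩) fun h hh => ⟨?_, hcomK (hBle hh)⟩
    exact ((hmemB h).mp hh).1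
  have hcardB : Nat.card B' = 4 := by
    have hle' : B.map (P : Subgroup G).subtype ≤ H := (Subgroup.map_subtype_le B).trans hle
    rw [show B' = (B.map (P : Subgroup G).subtype).subgroupOf H from rfl,
      Nat.card_congr (Subgroup.subgroupOfEquivOfLe hle').toEquiv,
      Subgroup.card_map_of_injective (P : Subgroup G).subtype_injective, hO.cardB]
  have hQcard : Nat.card (Q : Subgroup H) = 16 :=
    (Nat.card_congr (Subgroup.subgroupOfEquivOfLe hle).toEquiv).trans hcard
  -- the quotient is a `2`-group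
  have hquot : IsPGroup 2 (H ⧸ K) := fun x => by
    obtain ⟨h, rfl⟩ := QuotientGroup.mk_surjective x
    exact ⟨v, by rw [← QuotientGroup.mk_pow]; exact (QuotientGroup.eq_one_iff _).mpr (hpow2 h)⟩
  have htop : K ⊔ (Q : Subgroup H) = ⊤ := by
    rw [← Subgroup.index_eq_one]
    obtain ⟨e, he⟩ := IsPGroup.iff_card.mp hquot
    have h1 : (K ⊔ (Q : Subgroup H)).index ∣ 2 ^ e := by
      rw [← he, ← Subgroup.index_eq_card]
      exact Subgroup.index_dvd_of_le le_sup_left
    have h2 : (K ⊔ (Q : Subgroup H)).index ∣ (Q : Subgroup H).index :=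
      Subgroup.index_dvd_of_le le_sup_right
    exact Nat.eq_one_of_dvd_coprimes
      ((Nat.prime_two.coprime_iff_not_dvd.mpr Q.not_dvd_index).pow_left e) h1 h2
  have hindex : K.index = 4 := by
    have h1 : K.relIndex (Q : Subgroup H) * Nat.card ↥((Q : Subgroup H) ⊓ K) = 16 := by
      have h := Subgroup.card_mul_index (((Q : Subgroup H) ⊓ K).subgroupOf (Q : Subgroup H))
      rw [Nat.card_congr (Subgroup.subgroupOfEquivOfLe inf_le_left).toEquiv, hQcard,
        ← Subgroup.relIndex, Subgroup.inf_relIndex_left] at h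
      rw [mul_comm]; exact h
    rw [hinf, hcardB] at h1
    rw [← Subgroup.relIndex_top_right, ← htop, Subgroup.relIndex_sup_left]
    omega
  -- a generator in `K`
  have hw9 : w₀ ^ 9 = 1 := by
    rw [← hE]
    exact congrArg Subtype.val (pow_card_eq_one' (x := (⟨w₀, hw₀⟩ : AbelianFrob.autG P)))
  set u : H := (⟨n₀, hn₀H⟩ : H) ^ 2 ^ v
  set w := w₀ ^ 2 ^ v
  have hcop : ∀ k, Nat.Coprime 9 (2 ^ k) := fun k => Nat.Coprime.pow_right k (by norm_num)
  have hback : ∀ k, ∀ y : (P : Subgroup G), y ∈ B → (w₀ ^ 2 ^ k) y = y → y = 1 := by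
    intro k y hy he
    have hord : orderOf w₀ ∣ 9 := orderOf_dvd_of_pow_eq_one hw9
    obtain ⟨j, hj⟩ := exists_pow_eq_self_of_coprime
      ((Nat.Coprime.coprime_dvd_left hord (hcop k)).symm)
    refine hw₀B y hy ?_
    rw [← hj]
    have : ∀ i : ℕ, ((w₀ ^ 2 ^ k) ^ i) y = y := fun i => by
      induction i with
      | zero => rfl
      | succ i ih => rw [pow_succ, MulAut.mul_apply, he, ih]
    exact this j
  have hpw : ∀ (k : ℕ) (y : (P : Subgroup G)),
      (((w₀ ^ k) y : (P : Subgroup G)) : G) = n₀ ^ k * y * (n₀ ^ k)⁻¹ := by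
    intro k
    induction k with
    | zero => simp
    | succ k ih =>
      intro y
      rw [pow_succ', MulAut.mul_apply, hn₀c, ih, pow_succ']
      group
  have hwE : w ∈ AbelianFrob.autG P := pow_mem hw₀ _
  refine ⟨K, ⟨(b : G), hle b.2⟩, ⟨inferInstance, hindex, hQc, hQe, fun h => ?_, by rw [hinf, hcardB],
    hcomK (hBle ((hmemB _).mpr ⟨b.2, hO.hb⟩)), b.2,
    fun h => hO.hb1 (Subtype.ext (congrArg (fun z : H => (z : G)) h :)), fun x hxP hxK hx1 => ?_, fun tk htk => ?_,
    fun s hs => ?_⟩⟩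
  · obtain ⟨k, hk, y, hy, e⟩ := Subgroup.mem_sup_of_normal_left.mp (htop ▸ Subgroup.mem_top h)
    exact ⟨k, hk, y, hy, e.symm⟩
  · have hxB : x ∈ B' := hinf ▸ (⟨hxP, hxK⟩ : x ∈ (Q : Subgroup H) ⊓ K)
    obtain ⟨hxP', hxB⟩ := (hmemB x).mp hxB
    set x' : (P : Subgroup G) := ⟨x, hxP'⟩
    have hx'1 : x' ≠ 1 := fun h => hx1 (Subtype.ext (congrArg Subtype.val h :))
    have hne : ∀ z : MulAut (P : Subgroup G), z b ≠ 1 := fun z h =>
      hO.hb1 (z.injective (h.trans (map_one z).symm))
    have hwb : w b ≠ b := fun h => hO.hb1 (hback v b hO.hb h)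
    have hwb' : w⁻¹ b ≠ b := fun h => hwb (by
      have := congrArg w h
      rwa [MulAut.apply_inv_self, eq_comm] at this)
    have hww : w b ≠ w⁻¹ b := fun h => hO.hb1 (hback (v + 1) b hO.hb (by
      have := congrArg w h
      rw [MulAut.apply_inv_self, ← MulAut.mul_apply] at this
      rwa [pow_succ, pow_mul, sq]))
    have hthree : x' = b ∨ x' = w b ∨ x' = w⁻¹ b := by
      by_contra hno
      push Not at hno
      haveI := Fintype.ofFinite (P : Subgroup G)
      have hsub : ({1, b, w b, w⁻¹ b, x'} : Finset (P : Subgroup G)) ⊆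
          Finset.univ.filter (· ∈ B) := by
        intro z hz
        simp only [Finset.mem_insert, Finset.mem_singleton] at hz
        simp only [Finset.mem_filter, Finset.mem_univ, true_and]
        rcases hz with rfl | rfl | rfl | rfl | rfl
        exacts [one_mem B, hO.hb, hO.mapB w hwE b hO.hb, hO.mapB _ (inv_mem hwE) b hO.hb, hxB]
      have h5 := Finset.card_le_card hsub
      have h4 : (Finset.univ.filter fun z : (P : Subgroup G) => z ∈ B).card = 4 := by
        rw [← Fintype.card_subtype, ← Nat.card_eq_fintype_card]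
        exact hO.cardB
      rw [h4, Finset.card_insert_of_notMem (by
          simp only [Finset.mem_insert, Finset.mem_singleton, not_or]
          exact ⟨hO.hb1.symm, (hne w).symm, (hne w⁻¹).symm, hx'1.symm⟩),
        Finset.card_insert_of_notMem (by
          simp only [Finset.mem_insert, Finset.mem_singleton, not_or]
          exact ⟨hwb.symm, hwb'.symm, hno.1.symm⟩),
        Finset.card_insert_of_notMem (by
          simp only [Finset.mem_insert, Finset.mem_singleton, not_or]
          exact ⟨hww, hno.2.1.symm⟩),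
        Finset.card_pair hno.2.2.symm] at h5
      omega
    rcases hthree with e | e | e
    · refine ⟨1, one_mem K, Subtype.ext ?_⟩
      simp only [one_mul, inv_one, mul_one]
      exact congrArg (fun z : (P : Subgroup G) => (z : G)) e.symm
    · refine ⟨u, hpow2 _, Subtype.ext ?_⟩
      show ((u : H) : G) * (b : G) * ((u : H) : G)⁻¹ = (x' : G)
      rw [e, hpw]; rfl
    · refine ⟨u⁻¹, inv_mem (hpow2 _), Subtype.ext ?_⟩
      show ((u : H) : G)⁻¹ * (b : G) * ((u : H) : G)⁻¹⁻¹ = (x' : G)
      have h2 := congrArg (fun z : (P : Subgroup G) => (z : G)) (show w (w⁻¹ b) = b by rw [MulAut.apply_inv_self])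
      rw [hpw] at h2
      rw [e, ← h2, show ((u : H) : G) = n₀ ^ 2 ^ v from rfl]
      group
  · have hnpc := npc_of_free hab (c := a * b) hO.free
    let f : Subgroup.centralizer ({tk} : Set K) →*
        Subgroup.centralizer ({((a * b : (P : Subgroup G)) : G)} : Set G) :=
      ((H.subtype.comp K.subtype).comp (Subgroup.centralizer ({tk} : Set K)).subtype).codRestrict _
        fun k => by
          rw [Subgroup.mem_centralizer_singleton_iff]
          have h1 : Commute (((k : K) : H) : G) (a : G) :=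
            Subgroup.mem_centralizer_singleton_iff.mp ((k : K) : H).2
          have h2 : Commute (((k : K) : H) : G) (b : G) := by
            have h := congrArg (fun z : K => ((z : H) : G))
              (Subgroup.mem_centralizer_singleton_iff.mp k.2)
            simp only [Subgroup.coe_mul, htk] at h
            exact h
          exact (h1.mul_right h2).eq
    exact Transfer.hasNormalPComplement_of_injective f (fun k k' e => Subtype.ext (Subtype.ext
      (Subtype.ext (congrArg Subtype.val e :)))) hnpc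
  · have hd : orderOf s ∣ m :=
      ((Nat.prime_two.coprime_iff_not_dvd.mpr hs).symm.pow_right v).dvd_of_dvd_mul_left
        (hm ▸ orderOf_dvd_natCard s)
    rw [hmemK, ← map_pow, orderOf_dvd_iff_pow_eq_one.mp hd, map_one]

/-- The parts of the scalar products on the section of `a`. -/
theorem side_data (hM : IsPModular 2 M) [DecidablePred (· ∈ principalBlock M G)]
    {a : G} (ha : a ^ 2 = 1) {Q : Sylow 2 (Subgroup.centralizer ({a} : Set G))}
    {K : Subgroup (Subgroup.centralizer ({a} : Set G))} {t : Subgroup.centralizer ({a} : Set G)}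
    (hK : FourKernel Q K t) (d : IrrCharacter G → ℤ)
    (hd : ∀ χ : IrrCharacter G, ∃ k : ℤ, (χ : G → ℂ) a = d χ + 4 * (k : ℂ)) :
    ∃ N : IrrCharacter G → IrrCharacter G → ℤ,
      (∀ χ ∈ principalBlock M G, ∀ ψ ∈ principalBlock M G,
        16 * sectionInner a (χ : G → ℂ) (ψ : G → ℂ) = 4 * (N χ ψ : ℂ) - (d χ : ℂ) * d ψ) ∧
      (∀ χ ∈ principalBlock M G, Odd (d χ) → Odd (N χ χ)) ∧
      (d (trivIrr G) = 1 → N (trivIrr G) (trivIrr G) = 1) ∧
      blockRank 2 (principalBlock M (Subgroup.centralizer ({a} : Set G))) = 3 := by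
  classical
  haveI : Fact (Nat.Prime 2) := ⟨Nat.prime_two⟩
  have := isPrime_of_isPModular hM
  have hta : IsTwo a := by
    obtain ⟨i, -, hi⟩ := (Nat.dvd_prime_pow Nat.prime_two (m := 1)).mp
      (by rw [pow_one]; exact orderOf_dvd_of_pow_eq_one ha : orderOf a ∣ 2 ^ 1)
    exact ⟨i, hi⟩
  obtain ⟨δ, π, hδ, hdeg, hinner, hrank⟩ := central_data hM hK
  let b₀ : Finset (IrrCharacter (Subgroup.centralizer ({a} : Set G))) := Finset.univ.filter (· ∈ principalBlock M (Subgroup.centralizer ({a} : Set G)))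
  let θ : IrrCharacter G → (Subgroup.centralizer ({a} : Set G)) → ℂ := fun χ c => (χ : G → ℂ) (a * (c : G))
  have hint : ∀ (χ : IrrCharacter G) (ξ : IrrCharacter (Subgroup.centralizer ({a} : Set G))),
      ∃ z : ℤ, classInner (θ χ) (ξ : (Subgroup.centralizer ({a} : Set G)) → ℂ) = z := by
    intro χ ξ
    obtain ⟨m, hm⟩ := Char.exists_multiplicities
      (Char.isCharacter_restrict (Subgroup.centralizer ({a} : Set G)) (Char.isCharacter_of_isIrr χ.2))
    set w : Subgroup.zpowers a := ⟨a, Subgroup.mem_zpowers a⟩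
    have hθ : θ χ = ∑ ψ : IrrCharacter (Subgroup.centralizer ({a} : Set G)),
        ((m ψ : ℂ) * (centralScalar a ψ w : ℂ)) • (ψ : (Subgroup.centralizer ({a} : Set G)) → ℂ) := by
      funext c
      have h := congrFun hm (c * zpowersToCentralizer a w)
      simp only [Finset.sum_apply, Pi.smul_apply, smul_eq_mul, centralScalar_mul] at h ⊢
      rw [show θ χ c = (χ : G → ℂ) (((c * zpowersToCentralizer a w : (Subgroup.centralizer ({a} : Set G))) : G)) from
        congrArg (χ : G → ℂ) (Subgroup.mem_centralizer_singleton_iff.mp c.2).symm, h]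
      exact Finset.sum_congr rfl fun ψ _ => (mul_assoc _ _ _).symm
    rw [hθ, Char.classInner_sum_smul_irr]
    have h2 : (centralScalar a ξ w : ℂ) ^ 2 = 1 := by
      rw [← Units.val_pow_eq_pow_val, ← map_pow, show w ^ 2 = 1 from Subtype.ext ha, map_one,
        Units.val_one]
    rcases sq_eq_one_iff.mp h2 with h | h
    exacts [⟨m ξ, by rw [h]; simp⟩, ⟨-(m ξ : ℤ), by rw [h]; simp⟩]
  choose c hc using hint
  let R : IrrCharacter G → IrrCharacter K → ℤ := fun χ η =>
    ∑ ξ ∈ b₀ with π ξ = η, c χ ξ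
  let S : IrrCharacter G → ℤ := fun χ => ∑ η, R χ η * δ η
  let T : IrrCharacter G → IrrCharacter G → ℤ := fun χ ψ => ∑ η, R χ η * R ψ η
  have hS : ∀ χ, S χ = ∑ ξ ∈ b₀, c χ ξ * δ (π ξ) := by
    intro χ
    rw [← Finset.sum_fiberwise b₀ π]
    refine Finset.sum_congr rfl fun η _ => ?_
    rw [Finset.sum_mul]
    exact Finset.sum_congr rfl fun ξ hξ => by rw [(Finset.mem_filter.mp hξ).2]
  have hT : ∀ χ ψ, T χ ψ = ∑ ξ ∈ b₀, ∑ ξ' ∈ b₀, if π ξ = π ξ' then c χ ξ * c ψ ξ' else 0 := by
    intro χ ψ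
    rw [← Finset.sum_fiberwise b₀ π]
    refine Finset.sum_congr rfl fun η _ => ?_
    rw [Finset.sum_mul]
    refine Finset.sum_congr rfl fun ξ hξ => ?_
    rw [(Finset.mem_filter.mp hξ).2, Finset.mul_sum, Finset.sum_filter]
    exact Finset.sum_congr rfl fun ξ' _ => if_congr eq_comm rfl rfl
  have hval : ∀ χ ∈ principalBlock M G, ∀ s : (Subgroup.centralizer ({a} : Set G)), ¬ 2 ∣ orderOf s →
      θ χ s = ∑ ξ ∈ b₀, (c χ ξ : ℂ) * (ξ : (Subgroup.centralizer ({a} : Set G)) → ℂ) s := fun χ hχ s hs => by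
    have h := value_eq_principal_blockPart hM hta hχ hs
    rw [blockPart_eq_filter] at h
    exact h.trans (Finset.sum_congr rfl fun ξ _ => congrArg (· * _) (hc χ ξ))
  -- the congruence
  have hcong : ∀ χ ∈ principalBlock M G, ∃ k : ℤ, S χ = d χ + 4 * k := by
    intro χ hχ
    obtain ⟨k, hk⟩ := hd χ
    choose n hn using fun ξ : b₀ => hdeg ξ.1 (Finset.mem_filter.mp ξ.2).2
    have h := hval χ hχ 1 regular_one
    have e : θ χ 1 = (χ : G → ℂ) a := by simp [θ]
    rw [e, hk, ← Finset.sum_attach, Finset.sum_congr rfl fun ξ _ => by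
      rw [hn ξ, mul_add, ← mul_assoc, mul_comm _ (4 : ℂ), mul_assoc]] at h
    rw [Finset.sum_add_distrib, ← Finset.mul_sum,
      Finset.sum_attach b₀ fun ξ => (c χ ξ : ℂ) * (δ (π ξ) : ℂ)] at h
    refine ⟨k - ∑ ξ : b₀ with True, c χ ξ * n ξ, ?_⟩
    have : ((S χ : ℤ) : ℂ) = ((d χ + 4 * (k - ∑ ξ : b₀ with True, c χ ξ * n ξ) : ℤ) : ℂ) := by
      rw [hS]
      push_cast
      rw [Finset.filter_true_of_mem (fun _ _ => trivial), Finset.univ_eq_attach]
      linear_combination -h
    exact_mod_cast this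
  have hdvd : ∀ χ ∈ principalBlock M G, ∀ ψ ∈ principalBlock M G,
      (4 : ℤ) ∣ d χ * d ψ - S χ * S ψ := by
    intro χ hχ ψ hψ
    obtain ⟨k, hk⟩ := hcong χ hχ
    obtain ⟨l, hl⟩ := hcong ψ hψ
    exact ⟨-(k * d ψ + l * d χ + 4 * k * l), by rw [hk, hl]; ring⟩
  refine ⟨fun χ ψ => T χ ψ + (d χ * d ψ - S χ * S ψ) / 4, fun χ hχ ψ hψ => ?_, fun χ hχ hod => ?_,
    fun hd1 => ?_, hrank⟩
  · obtain ⟨q, hq⟩ := hdvd χ hχ ψ hψ
    have hS4 : sectionInner a (χ : G → ℂ) (ψ : G → ℂ) =
        ((T χ ψ : ℂ) - (S χ : ℂ) * S ψ / 4) / 4 := by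
      have e0 : sectionInner a (χ : G → ℂ) (ψ : G → ℂ) =
          classInner (∑ ξ ∈ b₀, (c χ ξ : ℂ) • regPart 2 (ξ : (Subgroup.centralizer ({a} : Set G)) → ℂ))
            (∑ ξ ∈ b₀, (c ψ ξ : ℂ) • (ξ : (Subgroup.centralizer ({a} : Set G)) → ℂ)) := by
        rw [sectionInner, classInner]
        refine congrArg _ (Finset.sum_congr rfl fun s _ => ?_)
        simp only [Finset.sum_apply, Pi.smul_apply, smul_eq_mul]
        by_cases hs : IsPRegular 2 s
        · rw [regPart_of_regular hs]
          simp only [regPart_of_regular hs]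
          rw [← hval χ hχ s hs, ← hval ψ hψ s hs]
        · rw [regPart_of_singular hs]
          simp [regPart_of_singular hs]
      rw [e0, Char.classInner_sum_left]
      simp only [Char.classInner_smul_left, Char.classInner_sum_right, Char.classInner_smul_right,
        map_intCast]
      rw [hT, hS, hS, Int.cast_sum]
      push_cast
      rw [Finset.sum_mul_sum, Finset.sum_div, ← Finset.sum_sub_distrib, Finset.sum_div]
      refine Finset.sum_congr rfl fun ξ hξ => ?_
      rw [Finset.sum_div, ← Finset.sum_sub_distrib, Finset.sum_div]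
      refine Finset.sum_congr rfl fun ξ' hξ' => ?_
      rw [hinner ξ (Finset.mem_filter.mp hξ).2 ξ' (Finset.mem_filter.mp hξ').2]
      split_ifs <;> ring
    rw [hS4]
    beta_reduce
    rw [hq, Int.mul_ediv_cancel_left _ (by norm_num)]
    have hq' : (d χ : ℂ) * d ψ - (S χ : ℂ) * S ψ = 4 * (q : ℂ) := by exact_mod_cast hq
    push_cast
    linear_combination hq'
  · obtain ⟨k, hk⟩ := hcong χ hχ
    have hSo : Odd (S χ) := by
      rw [hk]
      exact hod.add_even ⟨2 * k, by ring⟩
    have hTo : Odd (T χ χ) := by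
      have hr : ∀ z : ZMod 2, z * z = z ∧ z * 1 = z ∧ z * (-1) = z := by decide +revert
      have h1 : ∀ r e : ℤ, (e = 1 ∨ e = -1) → ((r * r : ℤ) : ZMod 2) = ((r * e : ℤ) : ZMod 2) := by
        intro r e he
        rcases he with rfl | rfl <;> push_cast <;>
          rw [(hr (r : ZMod 2)).1] <;> simp only [(hr (r : ZMod 2)).2]
      have h2 : ((T χ χ : ℤ) : ZMod 2) = ((S χ : ℤ) : ZMod 2) := by
        simp only [T, S, Int.cast_sum]
        exact Finset.sum_congr rfl fun η _ => h1 _ _ (hδ η)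
      rw [← ZMod.intCast_eq_one_iff_odd] at hSo ⊢
      rw [h2, hSo]
    have hsq : d χ * d χ - S χ * S χ = 4 * (-2 * (k * d χ + 2 * k * k)) := by rw [hk]; ring
    beta_reduce
    rw [hsq, Int.mul_ediv_cancel_left _ (by norm_num)]
    exact hTo.add_even ⟨-(k * d χ + 2 * k * k), by ring⟩
  · have htrivH : trivIrr (Subgroup.centralizer ({a} : Set G)) ∈ principalBlock M (Subgroup.centralizer ({a} : Set G)) := by
      rw [principalBlock_eq]; exact mem_blockOf_self (trivIrr (Subgroup.centralizer ({a} : Set G)))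
    have hct : ∀ ξ, c (trivIrr G) ξ = if trivIrr (Subgroup.centralizer ({a} : Set G)) = ξ then 1 else 0 := by
      intro ξ
      have h := hc (trivIrr G) ξ
      rw [show θ (trivIrr G) = (trivIrr (Subgroup.centralizer ({a} : Set G)) : (Subgroup.centralizer ({a} : Set G)) → ℂ) from rfl, Char.classInner_coe] at h
      split_ifs at h ⊢ <;> exact_mod_cast h.symm
    have hδ1 : δ (π (trivIrr (Subgroup.centralizer ({a} : Set G)))) = 1 := by
      obtain ⟨n, hn⟩ := hdeg _ htrivH
      have : ((1 : ℤ) : ℂ) = ((δ (π (trivIrr (Subgroup.centralizer ({a} : Set G)))) + 4 * n : ℤ) : ℂ) := by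
        push_cast
        rw [← hn]
        rfl
      have h1 : 1 = δ (π (trivIrr (Subgroup.centralizer ({a} : Set G)))) + 4 * n := by exact_mod_cast this
      rcases hδ (π (trivIrr (Subgroup.centralizer ({a} : Set G)))) with e | e <;> omega
    have hR : ∀ η, R (trivIrr G) η = if π (trivIrr (Subgroup.centralizer ({a} : Set G))) = η then 1 else 0 := by
      intro η
      simp only [R, hct, Finset.sum_ite_eq, b₀, Finset.mem_filter, Finset.mem_univ, true_and, htrivH]
    beta_reduce
    simp only [S, T, hR, ite_mul, one_mul, zero_mul, Finset.sum_ite_eq, Finset.mem_univ, if_true,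
      hδ1, hd1]
    norm_num

end CfsgLib.Blocks.InertiaNine
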