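import Cfsg.Agent.Lib.Blocks.InertiaNine.Lattice
import Cfsg.Agent.Lib.Blocks.InertiaNine.Side

/-!
# The principal block for an elementary Sylow subgroup of order sixteen with inertial index nine
-/

set_option autoImplicit false
set_option linter.unusedSectionVars false
set_option linter.style.haveILetI false

namespace CfsgLib.Blocks.InertiaNine

open Cfsg
open scoped ComplexConjugate CfsgLib.Char

variable {M : Ideal AlgInt} {G : Type*} [Group G] [Fintype G]

/-- The Cauchy inequality on a section. -/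
theorem re_sectionInner_sq_le (x : G) (f h : G → ℂ) :
    (sectionInner x f h).re ^ 2 ≤ (sectionInner x f f).re * (sectionInner x h h).re := by
  classical
  set C := Subgroup.centralizer ({x} : Set G)
  set u : C → ℂ := regPart 2 fun s : C => f (x * (s : G))
  set v : C → ℂ := regPart 2 fun s : C => h (x * (s : G))
  set r : ℝ := ((Nat.card C : ℝ))⁻¹
  have hprod : ∀ (f h : G → ℂ) (s : C),
      regPart 2 (fun s : C => f (x * (s : G)) * conj (h (x * (s : G)))) s =
        regPart 2 (fun s : C => f (x * (s : G))) s *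
          conj (regPart 2 (fun s : C => h (x * (s : G))) s) := by
    intro f h s
    by_cases hs : IsPRegular 2 s
    · rw [regPart_of_regular hs, regPart_of_regular hs, regPart_of_regular hs]
    · rw [regPart_of_singular hs, regPart_of_singular hs, zero_mul]
  have hre : ∀ f h : G → ℂ, (sectionInner x f h).re = r * ∑ s : C,
      (regPart 2 (fun s : C => f (x * (s : G))) s *
          conj (regPart 2 (fun s : C => h (x * (s : G))) s)).re := by
    intro f h
    rw [sectionInner, Finset.sum_congr rfl fun s _ => hprod f h s,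
      show ((Nat.card C : ℕ) : ℂ)⁻¹ = ((r : ℝ) : ℂ) by simp [r], Complex.re_ofReal_mul,
      Complex.re_sum]
  have hr : 0 ≤ r := by positivity
  simp only [hre, Complex.mul_conj, Complex.ofReal_re]
  have hq : ∀ t : ℝ, 0 ≤ (∑ s, Complex.normSq (v s)) * (t * t) +
      2 * (∑ s, (u s * conj (v s)).re) * t + ∑ s, Complex.normSq (u s) := by
    intro t
    have h0 : (0 : ℝ) ≤ ∑ s, Complex.normSq (u s + (t : ℂ) * v s) :=
      Finset.sum_nonneg fun s _ => Complex.normSq_nonneg _
    refine h0.trans (le_of_eq ?_)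
    rw [Finset.mul_sum, Finset.sum_mul, Finset.sum_mul, ← Finset.sum_add_distrib,
      ← Finset.sum_add_distrib]
    refine Finset.sum_congr rfl fun s _ => ?_
    rw [Complex.normSq_add, Complex.normSq_mul, Complex.normSq_ofReal, map_mul, Complex.conj_ofReal,
      mul_left_comm, Complex.re_ofReal_mul]
    ring
  have hd := discrim_le_zero hq
  rw [discrim] at hd
  have hd' : (∑ s, (u s * conj (v s)).re) ^ 2 ≤
      (∑ s, Complex.normSq (u s)) * ∑ s, Complex.normSq (v s) := by nlinarith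
  rw [mul_pow, mul_mul_mul_comm, ← sq]
  exact mul_le_mul_of_nonneg_left hd' (sq_nonneg r)

theorem re_sectionInner_self_nonneg (x : G) (f : G → ℂ) : 0 ≤ (sectionInner x f f).re := by
  classical
  rw [sectionInner, show ((Nat.card (Subgroup.centralizer ({x} : Set G)) : ℕ) : ℂ)⁻¹ =
      (((Nat.card (Subgroup.centralizer ({x} : Set G)) : ℝ)⁻¹ : ℝ) : ℂ) by simp,
    Complex.re_ofReal_mul, Complex.re_sum]
  refine mul_nonneg (by positivity) (Finset.sum_nonneg fun s _ => ?_)
  by_cases hs : IsPRegular 2 s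
  · rw [regPart_of_regular hs, Complex.mul_conj, Complex.ofReal_re]
    exact Complex.normSq_nonneg _
  · rw [regPart_of_singular hs, Complex.zero_re]

theorem re_sectionInner_one_pos (χ : IrrCharacter G) :
    0 < (sectionInner 1 (χ : G → ℂ) (χ : G → ℂ)).re := by
  classical
  rw [sectionInner, show ((Nat.card (Subgroup.centralizer ({(1 : G)} : Set G)) : ℕ) : ℂ)⁻¹ =
      (((Nat.card (Subgroup.centralizer ({(1 : G)} : Set G)) : ℝ)⁻¹ : ℝ) : ℂ) by simp,
    Complex.re_ofReal_mul, Complex.re_sum]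
  refine mul_pos (inv_pos.mpr (Nat.cast_pos.mpr Nat.card_pos))
    (Finset.sum_pos' (fun s _ => ?_) ⟨1, Finset.mem_univ _, ?_⟩)
  · by_cases hs : IsPRegular 2 s
    · rw [regPart_of_regular hs, Complex.mul_conj, Complex.ofReal_re]
      exact Complex.normSq_nonneg _
    · rw [regPart_of_singular hs, Complex.zero_re]
  · rw [regPart_of_regular (regular_one (H := Subgroup.centralizer ({(1 : G)} : Set G))),
      OneMemClass.coe_one, mul_one, Complex.mul_conj, Complex.ofReal_re]
    exact Complex.normSq_pos.mpr (Char.irr_degree_ne_zero χ.2)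

/-- A section whose centralizer has a normal `2`-complement. -/
theorem sectionInner_of_npc (hM : IsPModular 2 M) {x : G} (hx : IsTwo x)
    (hC : HasNormalPComplement 2 (Subgroup.centralizer ({x} : Set G)))
    (Q : Sylow 2 (Subgroup.centralizer ({x} : Set G))) {χ ψ : IrrCharacter G}
    (hχ : χ ∈ principalBlock M G) (hψ : ψ ∈ principalBlock M G) :
    sectionInner x (χ : G → ℂ) (ψ : G → ℂ) =
      (χ : G → ℂ) x * conj ((ψ : G → ℂ) x) / (Nat.card Q : ℂ) := by
  classical
  have hcard := card_regular_npc hC Q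
  rw [sectionInner, Finset.sum_congr rfl (g := fun s : Subgroup.centralizer ({x} : Set G) =>
      if IsPRegular 2 s then (χ : G → ℂ) x * conj ((ψ : G → ℂ) x) else 0) fun s _ => ?_,
    ← Finset.sum_filter, Finset.sum_const, nsmul_eq_mul, ← hcard, Nat.cast_mul]
  · have h0 : ((Finset.univ.filter fun s : Subgroup.centralizer ({x} : Set G) =>
        IsPRegular 2 s).card : ℂ) ≠ 0 := by
      rw [Nat.cast_ne_zero]
      exact (Finset.card_pos.mpr ⟨1, by simp [IsPRegular]⟩).ne'
    field_simp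
  · by_cases hs : IsPRegular 2 s
    · rw [regPart_of_regular hs, if_pos hs, value_eq_of_npc hM hχ hx hC hs,
        value_eq_of_npc hM hψ hx hC hs]
    · rw [regPart_of_singular hs, if_neg hs]

theorem regPart_eq_sectionInd (hM : IsPModular 2 M) (f : G → ℂ) :
    regPart 2 f = fun g => sectionInd 1 g * f g := by
  classical
  haveI : Fact (Nat.Prime 2) := ⟨Nat.prime_two⟩
  funext g
  by_cases hg : IsPRegular 2 g
  · rw [regPart_of_regular hg, sectionInd, if_pos ⟨1, AbelianFrob.isPPart_regular hM hg,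
      IsConj.refl 1⟩, one_mul]
  · rw [regPart_of_singular hg, sectionInd, if_neg, zero_mul]
    rintro ⟨y, ⟨w, hw, -, -, hwr⟩, hc⟩
    obtain rfl := isConj_one_right.mp hc.symm
    rw [one_mul] at hw
    exact hg (hw ▸ hwr)

variable {P : Sylow 2 G} (hab : IsMulCommutative (P : Subgroup G))
  (hcard : Nat.card P = 16) (hexp : ∀ x : P, x ^ 2 = 1)
include hab hcard hexp

/-- The value at a point with a stabilizer is congruent to the degree. -/
theorem value_congr_four {A B : Subgroup (P : Subgroup G)} {a b : (P : Subgroup G)}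
    (hO : Orbits (AbelianFrob.autG P) A B a b) (χ : IrrCharacter G) :
    ∃ n : ℕ, (χ : G → ℂ) 1 + 3 * (χ : G → ℂ) (a : G) = 4 * (n : ℂ) := by
  haveI := hab
  have hconj : ∀ w ∈ AbelianFrob.autG P, (χ : G → ℂ) (w a : (P : Subgroup G)) = (χ : G → ℂ) a :=
    fun w hw => IsClassFunction.eq_of_isConj (irr_classFunction χ)
      ((AbelianFrob.isConj_iff_autG P hab a (w a)).mpr ⟨w, hw, rfl⟩).symm
  obtain ⟨w, hw, -, hwA⟩ := hO.genB
  have hwa : w a ≠ a := fun h => hO.ha1 (hwA a hO.ha h)
  have hne : a * w a ≠ 1 := fun h => hwa (by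
    rw [eq_inv_of_mul_eq_one_right h]
    exact inv_eq_of_mul_eq_one_right (by rw [← sq]; exact hexp a))
  obtain ⟨w', hw', he⟩ := hO.orbA _ (mul_mem hO.ha (hO.mapA w hw a hO.ha)) hne
  obtain ⟨n, hn⟩ := four_dvd_sum (Char.isCharacter_of_isIrr χ.2)
    (congrArg Subtype.val (hexp a) : (a : G) ^ 2 = 1)
    (congrArg Subtype.val (hexp (w a)) : ((w a : (P : Subgroup G)) : G) ^ 2 = 1)
    (congrArg Subtype.val (mul_comm' (a := a) (b := w a)))
  refine ⟨n, ?_⟩
  rw [hconj w hw, ← Subgroup.coe_mul, ← he, hconj w' hw'] at hn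
  rw [← hn]
  ring

/-- Representatives of the classes of `2`-elements. -/
theorem reps_four [DecidableEq G] {A B : Subgroup (P : Subgroup G)} {a b : (P : Subgroup G)}
    (hO : Orbits (AbelianFrob.autG P) A B a b) :
    Reps ({1, (a : G), (b : G), ((a * b : (P : Subgroup G)) : G)} : Finset G) ∧
      (1 : G) ∉ ({(a : G), (b : G), ((a * b : (P : Subgroup G)) : G)} : Finset G) ∧
      (a : G) ∉ ({(b : G), ((a * b : (P : Subgroup G)) : G)} : Finset G) ∧
      (b : G) ≠ ((a * b : (P : Subgroup G)) : G) := by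
  classical
  haveI : Fact (Nat.Prime 2) := ⟨Nat.prime_two⟩
  have hbot : ∀ x : (P : Subgroup G), x ∈ A → x ∈ B → x = 1 := fun x h h' =>
    (Subgroup.eq_bot_iff_forall _).mp hO.inf_eq x ⟨h, h'⟩
  have habA : a * b ∉ A := fun h => hO.hb1 (hbot b (by simpa using mul_mem (inv_mem hO.ha) h) hO.hb)
  have habB : a * b ∉ B := fun h => hO.ha1 (hbot a hO.ha (by simpa using mul_mem h (inv_mem hO.hb)))
  have hab1 : a * b ≠ 1 := fun h => habA (h ▸ one_mem A)
  set L : Finset (P : Subgroup G) := {1, a, b, a * b}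
  have hXL : ∀ x : G, x ∈ ({1, (a : G), (b : G), ((a * b : (P : Subgroup G)) : G)} : Finset G) →
      ∃ y ∈ L, ((y : (P : Subgroup G)) : G) = x := by
    intro x hx
    simp only [Finset.mem_insert, Finset.mem_singleton] at hx
    rcases hx with rfl | rfl | rfl | rfl
    exacts [⟨1, by simp [L], rfl⟩, ⟨a, by simp [L], rfl⟩, ⟨b, by simp [L], rfl⟩,
      ⟨a * b, by simp [L], rfl⟩]
  have hLX : ∀ y ∈ L, ((y : (P : Subgroup G)) : G) ∈
      ({1, (a : G), (b : G), ((a * b : (P : Subgroup G)) : G)} : Finset G) := by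
    intro y hy
    simp only [L, Finset.mem_insert, Finset.mem_singleton] at hy
    rcases hy with rfl | rfl | rfl | rfl <;> simp
  have key : ∀ w ∈ AbelianFrob.autG P, ∀ y ∈ L, ∀ z ∈ L, w y = z → y = z := by
    intro w hw y hy z hz h
    have hA : ∀ x, w x ∈ A → x ∈ A := fun x hx => by
      have := hO.mapA _ (inv_mem hw) _ hx
      rwa [MulAut.inv_apply_self] at this
    have hB : ∀ x, w x ∈ B → x ∈ B := fun x hx => by
      have := hO.mapB _ (inv_mem hw) _ hx
      rwa [MulAut.inv_apply_self] at this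
    have hA' : y ∈ A ↔ z ∈ A := h ▸ ⟨hO.mapA w hw y, hA y⟩
    have hB' : y ∈ B ↔ z ∈ B := h ▸ ⟨hO.mapB w hw y, hB y⟩
    have haB : a ∉ B := fun hx => hO.ha1 (hbot a hO.ha hx)
    have hbA : b ∉ A := fun hx => hO.hb1 (hbot b hx hO.hb)
    simp only [L, Finset.mem_insert, Finset.mem_singleton] at hy hz
    rcases hy with rfl | rfl | rfl | rfl <;> rcases hz with rfl | rfl | rfl | rfl <;>
      first
        | rfl
        | exact absurd (hA'.mp (by first | exact one_mem A | exact hO.ha)) (by assumption)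
        | exact absurd (hA'.mpr (by first | exact one_mem A | exact hO.ha)) (by assumption)
        | exact absurd (hB'.mp (by first | exact one_mem B | exact hO.hb)) (by assumption)
        | exact absurd (hB'.mpr (by first | exact one_mem B | exact hO.hb)) (by assumption)
  have hrep : ∀ x : (P : Subgroup G), ∃ y ∈ L, ∃ w ∈ AbelianFrob.autG P, w y = x := by
    intro x
    by_cases h1 : x = 1
    · exact ⟨1, by simp [L], 1, one_mem _, h1.symm⟩
    by_cases hA : x ∈ A
    · exact ⟨a, by simp [L], hO.orbA x hA h1⟩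
    by_cases hB : x ∈ B
    · exact ⟨b, by simp [L], hO.orbB x hB h1⟩
    exact ⟨a * b, by simp [L], hO.orbC x hA hB⟩
  have hinj : ∀ y ∈ L, ∀ z ∈ L, IsConj (y : G) (z : G) → y = z := fun y hy z hz h => by
    obtain ⟨w, hw, e⟩ := (AbelianFrob.isConj_iff_autG P hab y z).mp h
    exact key w hw y hy z hz e
  refine ⟨⟨fun x hx => ?_, fun g hg => ?_⟩, ?_, ?_, ?_⟩
  · obtain ⟨y, -, rfl⟩ := hXL x hx
    obtain ⟨k, hk⟩ := IsPGroup.iff_orderOf.mp P.2 y
    exact ⟨k, by rw [Subgroup.orderOf_coe, hk]⟩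
  · obtain ⟨T, hT⟩ := (Transfer.isPGroup_zpowers hg).exists_le_sylow
    obtain ⟨c, hc⟩ := MulAction.exists_smul_eq G T P
    have hmem : c * g * c⁻¹ ∈ (P : Subgroup G) := by
      show c * g * c⁻¹ ∈ P
      rw [← hc, ← SetLike.mem_coe, Sylow.coe_smul]
      exact Set.mem_smul_set.mpr ⟨g, hT (Subgroup.mem_zpowers g), rfl⟩
    obtain ⟨y, hy, w, hw, he⟩ := hrep ⟨_, hmem⟩
    have hgy : IsConj g (y : G) := (isConj_iff.mpr ⟨c, rfl⟩ : IsConj g (c * g * c⁻¹)).trans
      ((AbelianFrob.isConj_iff_autG P hab y ⟨_, hmem⟩).mpr ⟨w, hw, he⟩).symm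
    refine ⟨y, ⟨hLX y hy, hgy⟩, fun x hx => ?_⟩
    obtain ⟨z, hz, rfl⟩ := hXL x hx.1
    rw [hinj z hz y hy (hx.2.symm.trans hgy)]
  · simp only [Finset.mem_insert, Finset.mem_singleton, not_or]
    exact ⟨fun h => hO.ha1 (Subtype.ext h.symm), fun h => hO.hb1 (Subtype.ext h.symm),
      fun h => hab1 (Subtype.ext h.symm)⟩
  · simp only [Finset.mem_insert, Finset.mem_singleton, not_or]
    exact ⟨fun h => hO.hb1 (hbot b (Subtype.ext h ▸ hO.ha) hO.hb),
      fun h => habA (Subtype.ext h ▸ hO.ha)⟩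
  · exact fun h => habB (Subtype.ext h ▸ hO.hb)

/-- Sixteen characters and rank nine. -/
theorem invariants (hM : IsPModular 2 M) (hE : Nat.card (AbelianFrob.autG P) = 9) :
    Nat.card (principalBlock M G) = 16 ∧ blockRank 2 (principalBlock M G) = 9 := by
  classical
  haveI : Fact (Nat.Prime 2) := ⟨Nat.prime_two⟩
  haveI := hab
  have := isPrime_of_isPModular hM
  obtain ⟨A, B, a, b, hO⟩ := exists_orbits (V := (P : Subgroup G)) hcard hexp hE
  have hcomm : a * b = b * a := mul_comm' (a := a) (b := b)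
  obtain ⟨K, t, hK⟩ := exists_fourKernel hab hcard hexp hE hO
  obtain ⟨K', t', hK'⟩ := exists_fourKernel hab hcard hexp hE (hO.swap hcomm)
  obtain ⟨hX, h1X, haX, hbc⟩ := reps_four hab hcard hexp hO
  set c : G := ((a * b : (P : Subgroup G)) : G) with hcdef
  have ha2 : (a : G) ^ 2 = 1 := congrArg Subtype.val (hexp a)
  have hb2 : (b : G) ^ 2 = 1 := congrArg Subtype.val (hexp b)
  have hc2 : c ^ 2 = 1 := congrArg Subtype.val (hexp (a * b))
  choose d hd using fun χ : IrrCharacter G => exists_int_invol hc2 χ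
  choose u hu using fun χ : IrrCharacter G => exists_int_invol ha2 χ
  choose u' hu' using fun χ : IrrCharacter G => exists_int_invol hb2 χ
  -- the congruences
  have hcongr : ∀ χ : IrrCharacter G,
      (∃ k : ℤ, (χ : G → ℂ) a = d χ + 4 * (k : ℂ)) ∧
        ∃ k : ℤ, (χ : G → ℂ) b = d χ + 4 * (k : ℂ) := by
    intro χ
    obtain ⟨m, -, hm⟩ := Char.exists_nat_degree_irr χ.2
    obtain ⟨n₁, h₁⟩ := value_congr_four hab hcard hexp hO χ
    obtain ⟨n₂, h₂⟩ := value_congr_four hab hcard hexp (hO.swap hcomm) χ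
    obtain ⟨n₃, h₃⟩ := four_dvd_sum (Char.isCharacter_of_isIrr χ.2) ha2 hb2
      (congrArg Subtype.val hcomm)
    rw [show (a : G) * (b : G) = c from rfl, hd χ] at h₃
    rw [hm, hu] at h₁
    rw [hm, hu'] at h₂
    rw [hm, hu, hu'] at h₃
    have e₁ : (m : ℤ) + 3 * u χ = 4 * n₁ := by exact_mod_cast h₁
    have e₂ : (m : ℤ) + 3 * u' χ = 4 * n₂ := by exact_mod_cast h₂
    have e₃ : (m : ℤ) + u χ + u' χ + d χ = 4 * n₃ := by exact_mod_cast h₃
    obtain ⟨k, hk⟩ : (4 : ℤ) ∣ u χ - d χ := by omega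
    obtain ⟨k', hk'⟩ : (4 : ℤ) ∣ u' χ - d χ := by omega
    refine ⟨⟨k, ?_⟩, ⟨k', ?_⟩⟩
    · rw [hu, show u χ = d χ + 4 * k by linarith]; push_cast; ring
    · rw [hu', show u' χ = d χ + 4 * k' by linarith]; push_cast; ring
  obtain ⟨N, hN, hNodd, hN1, hra⟩ := side_data hM ha2 hK d fun χ => (hcongr χ).1
  obtain ⟨N', hN', hNodd', hN1', hrb⟩ := side_data hM hb2 hK' d fun χ => (hcongr χ).2
  have hnpc := npc_of_free hab (c := a * b) hO.free
  have hle := AbelianFrob.le_centralizer_singleton P hab (a * b).2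
  have hQ : Nat.card (P.subtype hle : Sylow 2 _) = 16 :=
    (Nat.card_congr (Subgroup.subgroupOfEquivOfLe hle).toEquiv).trans hcard
  have hrc := blockRank_principal_of_npc hM hnpc (P.subtype hle)
  have htc : IsTwo c := hX.two c (by simp [c])
  have hSc : ∀ χ ∈ principalBlock M G, ∀ ψ ∈ principalBlock M G,
      16 * sectionInner c (χ : G → ℂ) (ψ : G → ℂ) = (d χ : ℂ) * d ψ := by
    intro χ hχ ψ hψ
    rw [sectionInner_of_npc hM htc hnpc (P.subtype hle) hχ hψ, hQ, hd, hd, map_intCast]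
    push_cast
    ring
  set B₀ := principalBlock M G with hB₀
  have hS1 : ∀ χ ∈ B₀, ∀ ψ ∈ B₀, 16 * sectionInner 1 (χ : G → ℂ) (ψ : G → ℂ) =
      (if χ = ψ then 16 else 0) - 4 * (N χ ψ : ℂ) - 4 * (N' χ ψ : ℂ) + (d χ : ℂ) * d ψ := by
    intro χ hχ ψ hψ
    have h := sum_sectionInner hX χ ψ
    rw [Finset.sum_insert h1X, Finset.sum_insert haX, Finset.sum_pair hbc] at h
    have e : (if χ = ψ then (16 : ℂ) else 0) = 16 * if χ = ψ then (1 : ℂ) else 0 := by
      split_ifs <;> norm_num
    rw [e, ← h]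
    linear_combination -(hN χ hχ ψ hψ) - (hN' χ hχ ψ hψ) - (hSc χ hχ ψ hψ)
  let ι := {χ : IrrCharacter G // χ ∈ B₀}
  have hsum : ∀ F : IrrCharacter G → ℂ,
      ∑ χ : IrrCharacter G with χ ∈ B₀, F χ = ∑ i : ι, F i.1 :=
    fun F => Finset.sum_subtype _ (fun χ => by simp) F
  have htriv : trivIrr G ∈ B₀ := by
    rw [hB₀, principalBlock_eq]; exact mem_blockOf_self (trivIrr G)
  have hd1 : d (trivIrr G) = 1 := by
    have h := hd (trivIrr G)
    have : ((d (trivIrr G) : ℤ) : ℂ) = ((1 : ℤ) : ℂ) := by rw [← h]; simp [trivIrr]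
    exact_mod_cast this
  let n : ι → ι → ℤ := fun i j => N i.1 j.1
  let n' : ι → ι → ℤ := fun i j => N' i.1 j.1
  let e : ι → ℤ := fun i => d i.1
  have hA : ∀ i j : ι, sectionInner (a : G) (i.1 : G → ℂ) (j.1 : G → ℂ) =
      (4 * (n i j : ℂ) - (e i : ℂ) * e j) / 16 := fun i j => by
    rw [← hN i.1 i.2 j.1 j.2]; ring
  have hB : ∀ i j : ι, sectionInner (b : G) (i.1 : G → ℂ) (j.1 : G → ℂ) =
      (4 * (n' i j : ℂ) - (e i : ℂ) * e j) / 16 := fun i j => by
    rw [← hN' i.1 i.2 j.1 j.2]; ring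
  have hC : ∀ i j : ι, sectionInner c (i.1 : G → ℂ) (j.1 : G → ℂ) = (e i : ℂ) * e j / 16 :=
    fun i j => by rw [← hSc i.1 i.2 j.1 j.2]; ring
  have h₁ : ∀ i j : ι, sectionInner (1 : G) (i.1 : G → ℂ) (j.1 : G → ℂ) =
      ((if i = j then 16 else 0) - 4 * (n i j : ℂ) - 4 * (n' i j : ℂ) + (e i : ℂ) * e j) / 16 :=
    fun i j => by
      have h := hS1 i.1 i.2 j.1 j.2
      rw [show (if i.1 = j.1 then (16 : ℂ) else 0) = if i = j then 16 else 0 from
        if_congr Subtype.ext_iff.symm rfl rfl] at h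
      rw [← h]
      ring
  have haXm : (a : G) ∈ ({1, (a : G), (b : G), c} : Finset G) := by simp
  have hbXm : (b : G) ∈ ({1, (a : G), (b : G), c} : Finset G) := by simp
  have hcXm : c ∈ ({1, (a : G), (b : G), c} : Finset G) := by simp
  have hac : (a : G) ≠ c := fun h => haX (by simp [h])
  have hab' : (a : G) ≠ b := fun h => haX (by simp [h])
  have hproj : ∀ x ∈ ({1, (a : G), (b : G), c} : Finset G), ∀ y ∈ ({1, (a : G), (b : G), c} : Finset G),
      ∀ i k : ι, ∑ j : ι, sectionInner x (i.1 : G → ℂ) (j.1 : G → ℂ) *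
        sectionInner y (j.1 : G → ℂ) (k.1 : G → ℂ) =
          if x = y then sectionInner x (i.1 : G → ℂ) (k.1 : G → ℂ) else 0 := by
    intro x hx y hy i k
    rw [← sum_sectionInner_mul hM hX hx hy (φ := k.1) i.2, hsum]
  have htr : ∀ (x : G), IsTwo x → ∀ r : ℕ,
      blockRank 2 (principalBlock M (Subgroup.centralizer ({x} : Set G))) = r →
      ∑ i : ι, sectionInner x (i.1 : G → ℂ) (i.1 : G → ℂ) = (r : ℂ) := by
    intro x hx r hr
    rw [← hr, ← sum_sectionInner_self hM hx, hsum]
  have he16 : ∑ i : ι, (e i : ℂ) ^ 2 = 16 := by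
    have h := htr c htc 1 hrc
    rw [Finset.sum_congr rfl fun i _ => hC i i, ← Finset.sum_div, div_eq_iff (by norm_num)] at h
    rw [Nat.cast_one, one_mul] at h
    rw [← h]
    exact Finset.sum_congr rfl fun i _ => sq _
  -- the matrices
  have hmuld : ∀ i : ι, ∑ j, (n i j : ℂ) * e j = 4 * e i := by
    intro i
    have h := hproj _ haXm _ hcXm i i
    rw [if_neg hac] at h
    simp only [hA, hC] at h
    rw [Finset.sum_congr rfl (g := fun j => (e i : ℂ) / 256 * (4 * ((n i j : ℂ) * e j) - e i * (e j : ℂ) ^ 2))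
      fun j _ => by ring, ← Finset.mul_sum, Finset.sum_sub_distrib, ← Finset.mul_sum,
      ← Finset.mul_sum, he16, mul_eq_zero] at h
    rcases h with h | h
    · exfalso
      have hne : (e i : ℂ) ≠ 0 := fun h0 => by
        have hv := value_congr_of_principal hM P i.2 (c := c)
          (Subgroup.mem_centralizer_iff.mpr fun x hx =>
            congrArg Subtype.val (mul_comm' (a := (⟨x, hx⟩ : (P : Subgroup G))) (b := a * b)))
        rw [hd, show (d i.1 : ℂ) = 0 from h0, zero_div, zero_sub] at hv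
        exact not_memLocalIdeal_one (by simpa using memLocalIdeal_neg hv)
      exact hne (by simpa using h)
    · linear_combination h / 4
  have hene : ∀ i : ι, e i ≠ 0 := fun i h0 => by
    have hv := value_congr_of_principal hM P i.2 (c := c)
      (Subgroup.mem_centralizer_iff.mpr fun x hx =>
        congrArg Subtype.val (mul_comm' (a := (⟨x, hx⟩ : (P : Subgroup G))) (b := a * b)))
    rw [hd, show d i.1 = 0 from h0, Int.cast_zero, zero_div, zero_sub] at hv
    exact not_memLocalIdeal_one (by simpa using memLocalIdeal_neg hv)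
  have hmuld' : ∀ i : ι, ∑ j, (n' i j : ℂ) * e j = 4 * e i := by
    intro i
    have h := hproj _ hbXm _ hcXm i i
    rw [if_neg hbc] at h
    simp only [hB, hC] at h
    rw [Finset.sum_congr rfl (g := fun j => (e i : ℂ) / 256 * (4 * ((n' i j : ℂ) * e j) - e i * (e j : ℂ) ^ 2))
      fun j _ => by ring, ← Finset.mul_sum, Finset.sum_sub_distrib, ← Finset.mul_sum,
      ← Finset.mul_sum, he16, mul_eq_zero] at h
    rcases h with h | h
    · exact absurd (by simpa using h) (hene i)
    · linear_combination h / 4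
  have hsymm : ∀ i j, n i j = n j i := fun i j => by
    have h := sectionInner_conj (a : G) (i.1 : G → ℂ) (j.1 : G → ℂ)
    rw [hA, hA, map_div₀, map_sub, map_mul, map_mul, map_intCast, map_intCast, map_intCast,
      map_ofNat, map_ofNat] at h
    have h' : ((n i j : ℤ) : ℂ) = (n j i : ℂ) := by linear_combination 4 * h
    exact_mod_cast h'
  have hsymm' : ∀ i j, n' i j = n' j i := fun i j => by
    have h := sectionInner_conj (b : G) (i.1 : G → ℂ) (j.1 : G → ℂ)
    rw [hB, hB, map_div₀, map_sub, map_mul, map_mul, map_intCast, map_intCast, map_intCast,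
      map_ofNat, map_ofNat] at h
    have h' : ((n' i j : ℤ) : ℂ) = (n' j i : ℂ) := by linear_combination 4 * h
    exact_mod_cast h'
  have hprodsum : ∀ (f g : ι → ι → ℤ), (∀ i, ∑ j, (f i j : ℂ) * e j = 4 * e i) →
      (∀ i, ∑ j, (g i j : ℂ) * e j = 4 * e i) → (∀ i j, g i j = g j i) → ∀ i k,
      ∑ j, ((4 * (f i j : ℂ) - e i * e j) / 16) * ((4 * (g j k : ℂ) - e j * e k) / 16) =
        (∑ j, (f i j : ℂ) * g j k - e i * e k) / 16 := by
    intro f g hf hg hgs i k
    rw [Finset.sum_congr rfl (g := fun j => (16 * ((f i j : ℂ) * g j k) - 4 * e k * ((f i j : ℂ) * e j)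
      - 4 * e i * ((g k j : ℂ) * e j) + e i * e k * (e j : ℂ) ^ 2) / 256) fun j _ => by
        rw [hgs j k]; ring, ← Finset.sum_div, Finset.sum_add_distrib, Finset.sum_sub_distrib,
      Finset.sum_sub_distrib, ← Finset.mul_sum, ← Finset.mul_sum, ← Finset.mul_sum, ← Finset.mul_sum,
      hf, hg, he16]
    ring
  have hdata : Data n n' e := by
    refine ⟨hsymm, hsymm', fun i k => ?_, fun i k => ?_, fun i k => ?_, ?_, ?_, ?_, hene,
      fun i => hNodd i.1 i.2, fun i => hNodd' i.1 i.2, fun i => ?_, fun i => ?_, fun i => ?_,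
      fun i j => ?_, fun i j => ?_, fun i j hij => ?_, ⟨⟨_, htriv⟩, hd1⟩⟩
    · have h := hproj _ haXm _ haXm i k
      rw [if_pos rfl] at h
      simp only [hA] at h
      rw [hprodsum n n hmuld hmuld hsymm] at h
      have h' : ((∑ j, n i j * n j k : ℤ) : ℂ) = ((4 * n i k : ℤ) : ℂ) := by
        push_cast
        linear_combination 16 * h
      exact_mod_cast h'
    · have h := hproj _ hbXm _ hbXm i k
      rw [if_pos rfl] at h
      simp only [hB] at h
      rw [hprodsum n' n' hmuld' hmuld' hsymm'] at h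
      have h' : ((∑ j, n' i j * n' j k : ℤ) : ℂ) = ((4 * n' i k : ℤ) : ℂ) := by
        push_cast
        linear_combination 16 * h
      exact_mod_cast h'
    · have h := hproj _ haXm _ hbXm i k
      rw [if_neg hab'] at h
      simp only [hA, hB] at h
      rw [hprodsum n n' hmuld hmuld' hsymm'] at h
      have h' : ((∑ j, n i j * n' j k : ℤ) : ℂ) = ((e i * e k : ℤ) : ℂ) := by
        push_cast
        linear_combination 16 * h
      exact_mod_cast h'
    · have h' : ((∑ i, e i ^ 2 : ℤ) : ℂ) = ((16 : ℤ) : ℂ) := by push_cast; exact he16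
      exact_mod_cast h'
    · have h := htr (a : G) (hX.two _ haXm) 3 hra
      simp only [hA] at h
      rw [← Finset.sum_div, Finset.sum_sub_distrib, ← Finset.mul_sum,
        Finset.sum_congr rfl fun i _ => (sq (e i : ℂ)).symm, he16] at h
      have h' : ((∑ i, n i i : ℤ) : ℂ) = ((16 : ℤ) : ℂ) := by
        push_cast at h ⊢
        linear_combination 4 * h
      exact_mod_cast h'
    · have h := htr (b : G) (hX.two _ hbXm) 3 hrb
      simp only [hB] at h
      rw [← Finset.sum_div, Finset.sum_sub_distrib, ← Finset.mul_sum,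
        Finset.sum_congr rfl fun i _ => (sq (e i : ℂ)).symm, he16] at h
      have h' : ((∑ i, n' i i : ℤ) : ℂ) = ((16 : ℤ) : ℂ) := by
        push_cast at h ⊢
        linear_combination 4 * h
      exact_mod_cast h'
    · have h := re_sectionInner_self_nonneg (a : G) (i.1 : G → ℂ)
      rw [hA] at h
      norm_num at h
      have : (e i : ℝ) ^ 2 ≤ 4 * (n i i : ℝ) := by nlinarith
      exact_mod_cast this
    · have h := re_sectionInner_self_nonneg (b : G) (i.1 : G → ℂ)
      rw [hB] at h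
      norm_num at h
      have : (e i : ℝ) ^ 2 ≤ 4 * (n' i i : ℝ) := by nlinarith
      exact_mod_cast this
    · have h := re_sectionInner_one_pos i.1
      rw [h₁, if_pos rfl] at h
      norm_num at h
      have : 4 * (n i i : ℝ) + 4 * (n' i i : ℝ) - (e i : ℝ) ^ 2 < 16 := by nlinarith
      exact_mod_cast this
    · have h := re_sectionInner_sq_le (a : G) (i.1 : G → ℂ) (j.1 : G → ℂ)
      rw [hA, hA, hA] at h
      norm_num at h
      have : (4 * (n i j : ℝ) - e i * e j) ^ 2 ≤
          (4 * (n i i : ℝ) - (e i : ℝ) ^ 2) * (4 * n j j - (e j : ℝ) ^ 2) := by nlinarith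
      exact_mod_cast this
    · have h := re_sectionInner_sq_le (b : G) (i.1 : G → ℂ) (j.1 : G → ℂ)
      rw [hB, hB, hB] at h
      norm_num at h
      have : (4 * (n' i j : ℝ) - e i * e j) ^ 2 ≤
          (4 * (n' i i : ℝ) - (e i : ℝ) ^ 2) * (4 * n' j j - (e j : ℝ) ^ 2) := by nlinarith
      exact_mod_cast this
    · have h := re_sectionInner_sq_le (1 : G) (i.1 : G → ℂ) (j.1 : G → ℂ)
      rw [h₁, h₁, h₁, if_pos rfl, if_pos rfl, if_neg hij] at h
      norm_num at h
      have : (4 * (n i j : ℝ) + 4 * n' i j - e i * e j) ^ 2 ≤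
          (16 - 4 * (n i i : ℝ) - 4 * n' i i + (e i : ℝ) ^ 2) *
            (16 - 4 * (n j j : ℝ) - 4 * n' j j + (e j : ℝ) ^ 2) := by nlinarith
      exact_mod_cast this
  -- the rank
  have hreg : ∀ χ ψ : IrrCharacter G,
      classInner (regPart 2 (χ : G → ℂ)) (ψ : G → ℂ) =
        sectionInner 1 (χ : G → ℂ) (ψ : G → ℂ) := fun χ ψ => by
    rw [regPart_eq_sectionInd hM, classInner_sectionInd hX (by simp) (irr_classFunction χ)
      (irr_classFunction ψ)]
  have hrank : (blockRank 2 B₀ : ℂ) = (Fintype.card ι : ℂ) - 7 := by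
    rw [blockRank_eq_sum_classInner hM (IsPBlock.isBlockUnion isPBlock_principalBlock), hsum]
    simp only [hreg, h₁, if_true]
    rw [← Finset.sum_div, Finset.sum_add_distrib, Finset.sum_sub_distrib, Finset.sum_sub_distrib,
      Finset.sum_const, Finset.card_univ, nsmul_eq_mul, ← Finset.mul_sum, ← Finset.mul_sum,
      Finset.sum_congr rfl fun i _ => (sq (e i : ℂ)).symm, he16]
    have e1 : (∑ i, (n i i : ℂ)) = 16 := by exact_mod_cast hdata.sum_N
    have e2 : (∑ i, (n' i i : ℂ)) = 16 := by exact_mod_cast hdata.sum_N'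
    rw [e1, e2]
    ring
  have hcardι : Nat.card B₀ = Fintype.card ι := Nat.card_eq_fintype_card
  rcases hdata.card_eq with h16 | h8
  · refine ⟨hcardι.trans h16, ?_⟩
    rw [h16] at hrank
    have : (blockRank 2 B₀ : ℂ) = ((9 : ℕ) : ℂ) := by rw [hrank]; norm_num
    exact_mod_cast this
  -- rank one is impossible
  exfalso
  rw [h8] at hrank
  have hone : blockRank 2 B₀ = 1 := by
    have : (blockRank 2 B₀ : ℂ) = ((1 : ℕ) : ℂ) := by rw [hrank]; norm_num
    exact_mod_cast this
  have hprop : ∀ χ ∈ B₀, regPart 2 (χ : G → ℂ) =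
      (χ : G → ℂ) 1 • regPart 2 (trivIrr G : G → ℂ) := by
    intro χ hχ
    set V := Submodule.span ℂ ((fun χ : IrrCharacter G => pRegularPart 2 (χ : G → ℂ)) '' B₀)
    have hV : Module.finrank ℂ V = 1 := hone
    have hmem : ∀ ξ ∈ B₀, regPart 2 (ξ : G → ℂ) ∈ V := fun ξ h =>
      Submodule.subset_span ⟨ξ, h, pRegularPart_eq_regPart _⟩
    have h0 : (⟨_, hmem _ htriv⟩ : V) ≠ 0 := fun h => by
      have h2 : regPart 2 (trivIrr G : G → ℂ) = 0 := congrArg Subtype.val h
      have := congrFun h2 1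
      rw [regPart_of_regular regular_one] at this
      simp [trivIrr] at this
    obtain ⟨r, hr⟩ := exists_smul_eq_of_finrank_eq_one hV h0 ⟨_, hmem χ hχ⟩
    have hr' : r • regPart 2 (trivIrr G : G → ℂ) = regPart 2 (χ : G → ℂ) :=
      congrArg Subtype.val hr
    have h1 := congrFun hr' 1
    simp only [Pi.smul_apply, regPart_of_regular regular_one, smul_eq_mul] at h1
    rw [show (trivIrr G : G → ℂ) 1 = 1 from rfl, mul_one] at h1
    rw [← h1, hr']
  set i₀ : ι := ⟨_, htriv⟩
  have h9 : sectionInner (1 : G) (trivIrr G : G → ℂ) (trivIrr G : G → ℂ) = 9 / 16 := by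
    rw [h₁ i₀ i₀, if_pos rfl, show n i₀ i₀ = 1 from hN1 hd1, show n' i₀ i₀ = 1 from hN1' hd1,
      show e i₀ = 1 from hd1]
    norm_num
  have hterm : ∀ i : ι, sectionInner (1 : G) (i.1 : G → ℂ) (i.1 : G → ℂ) =
      (i.1 : G → ℂ) 1 * conj ((i.1 : G → ℂ) 1) * (9 / 16) := by
    intro i
    rw [← hreg, hprop i.1 i.2, Char.classInner_smul_left, hreg, ← sectionInner_conj, ← hreg,
      hprop i.1 i.2, Char.classInner_smul_left, hreg, h9, map_mul, map_div₀, map_ofNat, map_ofNat,
      mul_assoc]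
  have htot : ∑ i : ι, sectionInner (1 : G) (i.1 : G → ℂ) (i.1 : G → ℂ) = 1 := by
    rw [blockRank_eq_sum_classInner hM (IsPBlock.isBlockUnion isPBlock_principalBlock), hsum] at hrank
    simp only [hreg] at hrank
    rw [hrank]
    norm_num
  rw [Finset.sum_congr rfl fun i _ => hterm i, ← Finset.sum_mul] at htot
  choose m hmpos hm using fun i : ι => Char.exists_nat_degree_irr i.1.2
  rw [Finset.sum_congr rfl fun i _ => by rw [hm i, Complex.conj_natCast], ← eq_div_iff (by norm_num)]
    at htot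
  have hle8 : (8 : ℝ) ≤ ∑ i : ι, (m i : ℝ) * m i := by
    calc (8 : ℝ) = ∑ _i : ι, (1 : ℝ) := by simp [h8]
      _ ≤ _ := Finset.sum_le_sum fun i _ => by
        have : (1 : ℝ) ≤ m i := Nat.one_le_cast.mpr (hmpos i)
        nlinarith
  have := congrArg Complex.re htot
  norm_num [Complex.re_sum] at this
  linarith

end CfsgLib.Blocks.InertiaNine
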