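import Mathlib

/-!
# A group of nine automorphisms of an elementary abelian group of order sixteen

It is the product of two groups of order three, each moving one of two complementary four-groups
and centralizing the other; there are three orbits of nontrivial elements, of sizes 3, 3 and 9.
-/

set_option autoImplicit false
set_option linter.unusedSectionVars false
set_option linter.style.haveILetI false
set_option linter.deprecated false

namespace CfsgLib.Blocks.InertiaNine

variable {V : Type*} [Group V] [Finite V]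

/-- The elements fixed by a set of automorphisms. -/
def fixOf (E : Subgroup (MulAut V)) : Subgroup V where
  carrier := {x | ∀ w ∈ E, w x = x}
  one_mem' := fun w _ => map_one w
  mul_mem' := fun hx hy w hw => by rw [map_mul, hx w hw, hy w hw]
  inv_mem' := fun hx w hw => by rw [map_inv, hx w hw]

theorem mem_fixOf {E : Subgroup (MulAut V)} {x : V} : x ∈ fixOf E ↔ ∀ w ∈ E, w x = x := Iff.rfl

/-- The orbit structure. -/
structure Orbits (E : Subgroup (MulAut V)) (A B : Subgroup V) (a b : V) : Prop where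
  cardA : Nat.card A = 4
  cardB : Nat.card B = 4
  inf_eq : A ⊓ B = ⊥
  ha : a ∈ A
  hb : b ∈ B
  ha1 : a ≠ 1
  hb1 : b ≠ 1
  mapA : ∀ w ∈ E, ∀ x ∈ A, w x ∈ A
  mapB : ∀ w ∈ E, ∀ x ∈ B, w x ∈ B
  orbA : ∀ x ∈ A, x ≠ 1 → ∃ w ∈ E, w a = x
  orbB : ∀ x ∈ B, x ≠ 1 → ∃ w ∈ E, w b = x
  orbC : ∀ x, x ∉ A → x ∉ B → ∃ w ∈ E, w (a * b) = x
  free : ∀ w ∈ E, w (a * b) = a * b → w = 1
  fixA : ∀ w ∈ E, w a = a → ∀ x ∈ A, w x = x
  fixB : ∀ w ∈ E, w b = b → ∀ x ∈ B, w x = x
  moveA : ∀ w ∈ E, w a = a → ∀ x, w x * x⁻¹ ∈ B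
  moveB : ∀ w ∈ E, w b = b → ∀ x, w x * x⁻¹ ∈ A
  genA : ∃ w ∈ E, w a = a ∧ ∀ x ∈ B, w x = x → x = 1
  genB : ∃ w ∈ E, w b = b ∧ ∀ x ∈ A, w x = x → x = 1

variable {E : Subgroup (MulAut V)}

/-- An invariant set on which the group acts freely has size divisible by its order. -/
theorem card_dvd_of_free [Fintype V] [DecidableEq V] (S : Finset V)
    (hS : ∀ w ∈ E, ∀ x ∈ S, w x ∈ S) (hfree : ∀ w ∈ E, ∀ x ∈ S, w x = x → w = 1) :
    Nat.card E ∣ S.card := by
  classical
  haveI : Fintype E := Fintype.ofFinite E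
  let O : V → Finset V := fun x => Finset.univ.image fun w : E => (w : MulAut V) x
  have hfib : ∀ x ∈ S, (S.filter fun y => O y = O x) = O x := by
    intro x hx
    ext y
    simp only [Finset.mem_filter, O, Finset.mem_image, Finset.mem_univ, true_and]
    constructor
    · rintro ⟨hy, he⟩
      have hmem : y ∈ Finset.univ.image fun w : E => (w : MulAut V) y :=
        Finset.mem_image.mpr ⟨1, Finset.mem_univ _, rfl⟩
      rw [he] at hmem
      simpa using hmem
    · rintro ⟨w, rfl⟩
      refine ⟨hS _ w.2 x hx, ?_⟩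
      ext z
      simp only [Finset.mem_image, Finset.mem_univ, true_and]
      constructor
      · rintro ⟨u, rfl⟩
        exact ⟨u * w, rfl⟩
      · rintro ⟨u, rfl⟩
        exact ⟨u * w⁻¹, by simp⟩
  rw [Finset.card_eq_sum_card_image O S]
  refine Finset.dvd_sum fun s hs => ?_
  obtain ⟨x, hx, rfl⟩ := Finset.mem_image.mp hs
  rw [hfib x hx, Finset.card_image_of_injective, Finset.card_univ, Nat.card_eq_fintype_card]
  intro u v huv
  have h := hfree _ (v⁻¹ * u).2 x hx (by
    simp only [Subgroup.coe_mul, Subgroup.coe_inv, MulAut.mul_apply]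
    rw [show (u : MulAut V) x = (v : MulAut V) x from huv]
    simp)
  exact (inv_mul_eq_one.mp (Subtype.ext h : v⁻¹ * u = 1)).symm

variable (hV : Nat.card V = 16) (hexp : ∀ x : V, x ^ 2 = 1) (hE : Nat.card E = 9)

include hV in
theorem card_fix_order_three {u : MulAut V} (hu : orderOf u = 3) :
    Nat.card (fixOf (Subgroup.zpowers u)) = 1 ∨ Nat.card (fixOf (Subgroup.zpowers u)) = 4 := by
  have hp : IsPGroup 3 (Subgroup.zpowers u) :=
    IsPGroup.of_card (n := 1) (by rw [Nat.card_zpowers, hu, pow_one])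
  haveI : Fact (Nat.Prime 3) := ⟨Nat.prime_three⟩
  have h := hp.card_modEq_card_fixedPoints V
  have e : Nat.card (MulAction.fixedPoints (Subgroup.zpowers u) V) =
      Nat.card (fixOf (Subgroup.zpowers u)) :=
    Nat.card_congr (Equiv.subtypeEquivRight fun x =>
      ⟨fun hx w hw => hx ⟨w, hw⟩, fun hx w => hx w w.2⟩)
  rw [e, hV, Nat.ModEq] at h
  have hd := hV ▸ Subgroup.card_subgroup_dvd_card (fixOf (Subgroup.zpowers u))
  have hne : Nat.card (fixOf (Subgroup.zpowers u)) ≠ 16 := by
    intro hc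
    have hall : fixOf (Subgroup.zpowers u) = ⊤ := Subgroup.eq_top_of_card_eq _ (hc.trans hV.symm)
    have : u = 1 := MulEquiv.ext fun x =>
      (show x ∈ fixOf (Subgroup.zpowers u) by rw [hall]; exact Subgroup.mem_top x) u
        (Subgroup.mem_zpowers u)
    rw [this, orderOf_one] at hu
    norm_num at hu
  have hle := Nat.le_of_dvd (by norm_num) hd
  interval_cases hc : Nat.card (fixOf (Subgroup.zpowers u)) <;> omega

include hV hexp hE in
/-- The structure of the orbits. -/
theorem exists_orbits : ∃ A B a b, Orbits E A B a b := by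
  classical
  haveI := Fintype.ofFinite V
  haveI := Fintype.ofFinite E
  haveI : Fact (Nat.Prime 3) := ⟨Nat.prime_three⟩
  have hcomm : ∀ u v : E, u * v = v * u :=
    IsPGroup.commutative_of_card_eq_prime_sq (p := 3) (by rw [hE]; norm_num)
  have hpE : IsPGroup 3 E := IsPGroup.of_card (n := 2) (by rw [hE]; norm_num)
  have hVc : ∀ x y : V, x * y = y * x := fun x y => by
    have h : ∀ z : V, z⁻¹ = z := fun z => inv_eq_of_mul_eq_one_right (by rw [← sq, hexp])
    calc x * y = (x * y)⁻¹ := (h _).symm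
      _ = y * x := by rw [mul_inv_rev, h, h]
  let st : V → Subgroup E := fun x => MulAction.stabilizer E x
  have hst : ∀ x (w : E), w ∈ st x ↔ (w : MulAut V) x = x := fun x w => Iff.rfl
  have hcl : ∀ L : Subgroup E, L ≠ ⊥ → Nat.card L = 3 ∨ L = ⊤ := by
    intro L hL
    have hd := hE ▸ Subgroup.card_subgroup_dvd_card L
    have hle := Nat.le_of_dvd (by norm_num) hd
    have h1 : Nat.card L ≠ 1 := fun h => hL (Subgroup.eq_bot_of_card_eq L h)
    by_cases h9 : Nat.card L = 9
    · exact Or.inr (Subgroup.eq_top_of_card_eq _ (h9.trans hE.symm))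
    · refine Or.inl ?_
      interval_cases hc : Nat.card L <;> omega
  -- the points with trivial stabilizer
  let S : Finset V := Finset.univ.filter fun x => st x = ⊥
  have hstmap : ∀ w ∈ E, ∀ x, st (w x) = st x := by
    intro w hw x
    ext v
    rw [hst, hst]
    have e : (v : MulAut V) (w x) = w ((v : MulAut V) x) :=
      congrArg (fun z : E => (z : MulAut V) x) (hcomm v ⟨w, hw⟩)
    rw [e, w.injective.eq_iff]
  have h9 : 9 ∣ S.card := by
    rw [← hE]
    refine card_dvd_of_free S (fun w hw x hx => ?_) fun w hw x hx he => ?_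
    · simp only [S, Finset.mem_filter, Finset.mem_univ, true_and] at hx ⊢
      rw [hstmap w hw x, hx]
    · simp only [S, Finset.mem_filter, Finset.mem_univ, true_and] at hx
      have : (⟨w, hw⟩ : E) ∈ st x := he
      rw [hx, Subgroup.mem_bot] at this
      exact congrArg Subtype.val this
  -- the fixed points of a subgroup of order three
  let F : Subgroup E → Subgroup V := fun L => fixOf (L.map E.subtype)
  have hF : ∀ L x, x ∈ F L ↔ L ≤ st x := fun L x => by
    constructor
    · intro hx w hw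
      exact (hst x w).mpr (hx _ ⟨w, hw, rfl⟩)
    · rintro h _ ⟨w, hw, rfl⟩
      exact (hst x w).mp (h hw)
  have hF3 : ∀ L : Subgroup E, Nat.card L = 3 → Nat.card (F L) = 1 ∨ Nat.card (F L) = 4 := by
    intro L hL
    obtain ⟨u, hu⟩ := isCyclic_iff_exists_zpowers_eq_top.mp
      (isCyclic_of_prime_card (hp := ⟨Nat.prime_three⟩) hL)
    have e : L.map E.subtype = Subgroup.zpowers ((u : E) : MulAut V) := by
      calc L.map E.subtype = ((⊤ : Subgroup L).map L.subtype).map E.subtype := by
            rw [← MonoidHom.range_eq_map, Subgroup.range_subtype]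
        _ = _ := by rw [← hu, MonoidHom.map_zpowers, MonoidHom.map_zpowers]; rfl
    show Nat.card (fixOf (L.map E.subtype)) = 1 ∨ Nat.card (fixOf (L.map E.subtype)) = 4
    rw [e]
    exact card_fix_order_three hV (by
      rw [Subgroup.orderOf_coe, Subgroup.orderOf_coe, ← Nat.card_zpowers, hu, Subgroup.card_top, hL])
  have hnb : ∀ x : V, x ∉ S → st x ≠ ⊥ := fun x hx => by simpa [S] using hx
  have hsplit : (Finset.univ.filter fun x : V => st x ≠ ⊥).card + S.card = 16 := by
    rw [← hV, Nat.card_eq_fintype_card, ← Finset.card_univ,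
      ← Finset.card_filter_add_card_filter_not (s := Finset.univ) (fun x : V => st x = ⊥), add_comm]
  have h1top : st 1 = ⊤ := eq_top_iff.mpr fun w _ => (hst 1 w).mpr (map_one _)
  -- no nontrivial point is fixed by all of the group
  have hfree : ∀ x : V, st x = ⊤ → x = 1 := by
    intro x₀ hx₀
    by_contra hne
    have hF0 : 1 < Nat.card (F ⊤) := by
      rw [Finite.one_lt_card_iff_nontrivial, Subgroup.nontrivial_iff_ne_bot]
      intro h
      exact hne ((Subgroup.eq_bot_iff_forall _).mp h x₀ ((hF ⊤ x₀).mpr hx₀.ge))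
    have e : Nat.card (MulAction.fixedPoints E V) = Nat.card (F ⊤) :=
      Nat.card_congr (Equiv.subtypeEquivRight fun x =>
        ⟨fun hx => (hF ⊤ x).mpr fun w _ => (hst x w).mpr (hx w),
          fun hx w => (hst x w).mp ((hF ⊤ x).mp hx (Subgroup.mem_top w))⟩)
    have hmod := hpE.card_modEq_card_fixedPoints V
    rw [e, hV, Nat.ModEq] at hmod
    have hsub : ∀ L : Subgroup E, Nat.card L = 3 → F L = F ⊤ := by
      intro L hL
      have hle : F ⊤ ≤ F L := fun x hx => (hF L x).mpr (le_top.trans ((hF ⊤ x).mp hx))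
      have hd := Subgroup.card_dvd_of_le hle
      refine (Subgroup.eq_of_le_of_card_ge hle ?_).symm
      rcases hF3 L hL with h | h <;> rw [h] at hd ⊢
      · have := Nat.le_of_dvd one_pos hd; omega
      · have := Nat.le_of_dvd (by norm_num) hd
        interval_cases hc : Nat.card (F ⊤) <;> omega
    have hset : (Finset.univ.filter fun x : V => st x ≠ ⊥).card = Nat.card (F ⊤) := by
      rw [← Fintype.card_subtype, ← Nat.card_eq_fintype_card]
      refine Nat.card_congr (Equiv.subtypeEquivRight fun x => ⟨fun hx => ?_, fun hx h => ?_⟩)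
      · rcases hcl _ hx with h | h
        · rw [← hsub _ h]; exact (hF _ x).mpr le_rfl
        · exact (hF ⊤ x).mpr h.ge
      · have := (hF ⊤ x).mp hx
        rw [h] at this
        have h2 := Subgroup.card_le_of_le this
        rw [Subgroup.card_top, hE, Subgroup.card_bot] at h2
        omega
    obtain ⟨L, hL⟩ := Sylow.exists_subgroup_card_pow_prime (G := E) 3 (n := 1)
      (by rw [hE]; norm_num)
    rw [pow_one] at hL
    have h4 := hF3 L hL
    rw [hsub L hL] at h4
    have : Nat.card (F ⊤) = 4 := h4.resolve_left (by omega)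
    obtain ⟨k, hk⟩ := h9
    omega
  have hS3 : ∀ x : V, x ≠ 1 → st x ≠ ⊥ → Nat.card (st x) = 3 := fun x hx hb =>
    (hcl _ hb).resolve_right fun h => hx (hfree x h)
  -- the subgroups of order three with fixed points
  let T : Finset V := Finset.univ.filter fun x => x ≠ 1 ∧ st x ≠ ⊥
  let 𝓛 : Finset (Subgroup E) := T.image st
  have hT : T.card + 1 + S.card = 16 := by
    rw [← hsplit]
    congr 1
    have hone : 1 ∈ Finset.univ.filter fun x : V => st x ≠ ⊥ := by
      simp only [Finset.mem_filter, Finset.mem_univ, true_and, h1top]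
      intro h
      have h2 := congrArg (fun H : Subgroup E => Nat.card H) h
      simp only [Subgroup.card_top, hE, Subgroup.card_bot] at h2
      omega
    rw [← Finset.card_erase_add_one hone]
    congr 2
    ext x
    simp [T]
  have hmemL : ∀ L ∈ 𝓛, Nat.card L = 3 ∧ Nat.card (F L) = 4 := by
    intro L hL
    obtain ⟨x, hx, rfl⟩ := Finset.mem_image.mp hL
    simp only [T, Finset.mem_filter, Finset.mem_univ, true_and] at hx
    refine ⟨hS3 x hx.1 hx.2, (hF3 _ (hS3 x hx.1 hx.2)).resolve_left fun h => hx.1 ?_⟩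
    exact (Subgroup.eq_bot_iff_forall _).mp (Subgroup.eq_bot_of_card_eq _ h) x ((hF _ x).mpr le_rfl)
  have hst_eq : ∀ L ∈ 𝓛, ∀ x ∈ F L, x ≠ 1 → st x = L := by
    intro L hL x hx hx1
    have hle := (hF L x).mp hx
    have hb : st x ≠ ⊥ := fun h => by
      rw [h, le_bot_iff] at hle
      have := (hmemL L hL).1
      rw [hle, Subgroup.card_bot] at this
      omega
    exact (Subgroup.eq_of_le_of_card_ge hle (by rw [hS3 x hx1 hb, (hmemL L hL).1])).symm
  have hfib : ∀ L ∈ 𝓛, (T.filter fun x => st x = L).card = 3 := by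
    intro L hL
    have h4 := (hmemL L hL).2
    rw [Nat.card_eq_fintype_card] at h4
    have : (T.filter fun x => st x = L) = (Finset.univ.filter fun x => x ∈ F L).erase 1 := by
      ext x
      simp only [T, Finset.mem_filter, Finset.mem_univ, true_and, Finset.mem_erase]
      refine ⟨fun ⟨⟨h1, _⟩, h2⟩ => ⟨h1, (hF L x).mpr h2.ge⟩, fun ⟨h1, h2⟩ => ?_⟩
      have he := hst_eq L hL x h2 h1
      refine ⟨⟨h1, ?_⟩, he⟩
      rw [he]
      intro hb
      have := (hmemL L hL).1
      rw [hb, Subgroup.card_bot] at this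
      omega
    rw [this, Finset.card_erase_of_mem (by simp [one_mem]), ← Fintype.card_subtype, h4]
  have hTcard : T.card = 3 * 𝓛.card := by
    rw [Finset.card_eq_sum_card_image st T, Finset.sum_congr rfl hfib, Finset.sum_const, smul_eq_mul,
      mul_comm]
  have hLle : 𝓛.card ≤ 4 := by
    let G' : Subgroup E → Finset E := fun L => Finset.univ.filter fun w => w ∈ L ∧ w ≠ 1
    have hG : ∀ L ∈ 𝓛, (G' L).card = 2 := by
      intro L hL
      have h3 := (hmemL L hL).1
      rw [Nat.card_eq_fintype_card] at h3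
      have : G' L = (Finset.univ.filter fun w => w ∈ L).erase 1 := by
        ext w; simp [G', and_comm]
      rw [this, Finset.card_erase_of_mem (by simp [one_mem]), ← Fintype.card_subtype, h3]
    have hdis : (↑𝓛 : Set (Subgroup E)).PairwiseDisjoint G' := by
      intro L hL L' hL' hne
      rw [Function.onFun, Finset.disjoint_left]
      intro w hw hw'
      simp only [G', Finset.mem_filter, Finset.mem_univ, true_and] at hw hw'
      apply hne
      have hbot : L ⊓ L' ≠ ⊥ := fun h => hw.2 ((Subgroup.eq_bot_iff_forall _).mp h w ⟨hw.1, hw'.1⟩)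
      have h3 := (hmemL L hL).1
      have h3' := (hmemL L' hL').1
      have hd := Subgroup.card_dvd_of_le (inf_le_left : L ⊓ L' ≤ L)
      rw [h3] at hd
      have hc : Nat.card ↥(L ⊓ L') = 3 := ((Nat.dvd_prime Nat.prime_three).mp hd).resolve_left
        fun h => hbot (Subgroup.eq_bot_of_card_eq _ h)
      rw [← Subgroup.eq_of_le_of_card_ge (inf_le_left : L ⊓ L' ≤ L) (by rw [hc, h3]),
        Subgroup.eq_of_le_of_card_ge (inf_le_right : L ⊓ L' ≤ L') (by rw [hc, h3'])]
    have hsub : 𝓛.biUnion G' ⊆ Finset.univ.erase 1 := fun w hw => by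
      simp only [Finset.mem_biUnion, G', Finset.mem_filter] at hw
      obtain ⟨L, -, -, -, h⟩ := hw
      simp [h]
    have h := Finset.card_le_card hsub
    rw [Finset.card_biUnion hdis, Finset.sum_congr rfl hG, Finset.sum_const, smul_eq_mul,
      Finset.card_erase_of_mem (Finset.mem_univ _), Finset.card_univ, ← Nat.card_eq_fintype_card,
      hE] at h
    omega
  have ht : 𝓛.card = 2 := by
    obtain ⟨k, hk⟩ := h9
    omega
  obtain ⟨L₁, L₂, hne, hLL⟩ := Finset.card_eq_two.mp ht
  have hL₁ : L₁ ∈ 𝓛 := by simp [hLL]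
  have hL₂ : L₂ ∈ 𝓛 := by simp [hLL]
  obtain ⟨a, ha, rfl⟩ := Finset.mem_image.mp hL₁
  obtain ⟨b, hb, rfl⟩ := Finset.mem_image.mp hL₂
  simp only [T, Finset.mem_filter, Finset.mem_univ, true_and] at ha hb
  set A := F (st a)
  set B := F (st b)
  have haA : a ∈ A := (hF _ a).mpr le_rfl
  have hbB : b ∈ B := (hF _ b).mpr le_rfl
  have hinf : A ⊓ B = ⊥ := by
    rw [Subgroup.eq_bot_iff_forall]
    intro x hx
    by_contra h1
    exact hne ((hst_eq _ hL₁ x hx.1 h1).symm.trans (hst_eq _ hL₂ x hx.2 h1))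
  have hprod : ∀ x : V, ∃ α ∈ A, ∃ β ∈ B, α * β = x := by
    have hinj : Function.Injective fun z : A × B => (z.1 : V) * z.2 :=
      Subgroup.mul_injective_of_disjoint (disjoint_iff.mpr hinf)
    have hbij := (Nat.bijective_iff_injective_and_card _).mpr ⟨hinj, by
      rw [Nat.card_prod, (hmemL _ hL₁).2, (hmemL _ hL₂).2, hV]⟩
    intro x
    obtain ⟨⟨α, β⟩, h⟩ := hbij.2 x
    exact ⟨α, α.2, β, β.2, h⟩
  have hmap : ∀ L : Subgroup E, ∀ w ∈ E, ∀ x ∈ F L, w x ∈ F L := fun L w hw x hx =>
    (hF L _).mpr (((hF L x).mp hx).trans (hstmap w hw x).ge)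
  have hfree' : st (a * b) = ⊥ := by
    by_contra h
    have h1 : a * b ≠ 1 := fun h' => ha.1 ((Subgroup.eq_bot_iff_forall _).mp hinf a
      ⟨haA, show a ∈ B by rw [eq_inv_of_mul_eq_one_left h']; exact inv_mem hbB⟩)
    have hmem : st (a * b) ∈ 𝓛 := Finset.mem_image.mpr ⟨_, by simp [T, h1, h], rfl⟩
    have hx : a * b ∈ F (st (a * b)) := (hF _ _).mpr le_rfl
    rw [hLL, Finset.mem_insert, Finset.mem_singleton] at hmem
    rcases hmem with e | e <;> rw [e] at hx
    · exact hb.1 ((Subgroup.eq_bot_iff_forall _).mp hinf b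
        ⟨by simpa using mul_mem (inv_mem haA) hx, hbB⟩)
    · exact ha.1 ((Subgroup.eq_bot_iff_forall _).mp hinf a
        ⟨haA, by simpa using mul_mem hx (inv_mem hbB)⟩)
  have horb : ∀ c ∈ T, ∀ x ∈ F (st c), x ≠ 1 → ∃ w ∈ E, w c = x := by
    intro c hc x hx hx1
    simp only [T, Finset.mem_filter, Finset.mem_univ, true_and] at hc
    have hL : st c ∈ 𝓛 := Finset.mem_image.mpr ⟨c, by simp [T, hc.1, hc.2], rfl⟩
    have hsub : (MulAction.orbit E c).toFinset ⊆ T.filter fun y => st y = st c := by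
      intro y hy
      rw [Set.mem_toFinset] at hy
      obtain ⟨w, rfl⟩ := hy
      have e : st (w • c) = st c := hstmap _ w.2 c
      simp only [T, Finset.mem_filter, Finset.mem_univ, true_and, e]
      exact ⟨⟨fun h => hc.1 (by simpa using congrArg (fun z => w⁻¹ • z) h), hc.2⟩, trivial⟩
    have hcard : (MulAction.orbit E c).toFinset.card = 3 := by
      have h := MulAction.card_orbit_mul_card_stabilizer_eq_card_group E c
      rw [← Nat.card_eq_fintype_card (α := E), hE, ← Nat.card_eq_fintype_card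
        (α := MulAction.stabilizer E c), hS3 c hc.1 hc.2] at h
      rw [Set.toFinset_card]
      omega
    have hxT : x ∈ T.filter fun y => st y = st c := by
      have e := hst_eq _ hL x hx hx1
      simp [T, hx1, e, hc.2]
    rw [← Finset.eq_of_subset_of_card_le hsub (by rw [hfib _ hL, hcard]), Set.mem_toFinset] at hxT
    obtain ⟨w, rfl⟩ := hxT
    exact ⟨w, w.2, rfl⟩
  have haT : a ∈ T := by simp [T, ha.1, ha.2]
  have hbT : b ∈ T := by simp [T, hb.1, hb.2]
  have hfix : ∀ c x, x ∈ F (st c) → ∀ w ∈ E, w c = c → w x = x := fun c x hx w hw he =>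
    (hst x ⟨w, hw⟩).mp ((hF _ x).mp hx ((hst c ⟨w, hw⟩).mpr he))
  have hgen : ∀ c d, c ∈ T → d ∈ T → st c ≠ st d →
      ∃ w ∈ E, w c = c ∧ ∀ x ∈ F (st d), w x = x → x = 1 := by
    intro c d hc hd hcd
    have hL : st c ∈ 𝓛 := Finset.mem_image.mpr ⟨c, hc, rfl⟩
    have hL' : st d ∈ 𝓛 := Finset.mem_image.mpr ⟨d, hd, rfl⟩
    obtain ⟨w, hw, hw'⟩ : ∃ w ∈ st c, w ∉ st d := by
      by_contra h
      push Not at h
      exact hcd (Subgroup.eq_of_le_of_card_ge h (by rw [(hmemL _ hL).1, (hmemL _ hL').1]))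
    refine ⟨w, w.2, hw, fun x hx he => ?_⟩
    by_contra h1
    exact hw' (hst_eq _ hL' x hx h1 ▸ (hst x w).mpr he)
  refine ⟨A, B, a, b, (hmemL _ hL₁).2, (hmemL _ hL₂).2, hinf, haA, hbB, ha.1, hb.1, hmap _,
    hmap _, horb a haT, horb b hbT, ?_, ?_, fun w hw he x hx => hfix a x hx w hw he,
    fun w hw he x hx => hfix b x hx w hw he, ?_, ?_, hgen a b haT hbT hne,
    hgen b a hbT haT hne.symm⟩
  · intro x hxA hxB
    have hsub : (MulAction.orbit E (a * b)).toFinset ⊆ S := by
      intro y hy
      rw [Set.mem_toFinset] at hy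
      obtain ⟨w, rfl⟩ := hy
      simp only [S, Finset.mem_filter, Finset.mem_univ, true_and]
      exact (hstmap _ w.2 _).trans hfree'
    have hcard : (MulAction.orbit E (a * b)).toFinset.card = 9 := by
      have h := MulAction.card_orbit_mul_card_stabilizer_eq_card_group E (a * b)
      rw [← Nat.card_eq_fintype_card (α := E), hE, ← Nat.card_eq_fintype_card
        (α := MulAction.stabilizer E (a * b)), show MulAction.stabilizer E (a * b) = ⊥ from hfree', Subgroup.card_bot] at h
      rw [Set.toFinset_card]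
      omega
    have hxS : x ∈ S := by
      simp only [S, Finset.mem_filter, Finset.mem_univ, true_and]
      by_contra h
      have h1 : x ≠ 1 := fun h' => hxA (h' ▸ one_mem A)
      have hmem : st x ∈ 𝓛 := Finset.mem_image.mpr ⟨x, by simp [T, h1, h], rfl⟩
      rw [hLL, Finset.mem_insert, Finset.mem_singleton] at hmem
      have hx' : x ∈ F (st x) := (hF _ x).mpr le_rfl
      rcases hmem with e | e <;> rw [e] at hx'
      · exact hxA hx'
      · exact hxB hx'
    rw [← Finset.eq_of_subset_of_card_le hsub (by omega), Set.mem_toFinset] at hxS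
    obtain ⟨w, rfl⟩ := hxS
    exact ⟨w, w.2, rfl⟩
  · intro w hw he
    have : (⟨w, hw⟩ : E) ∈ st (a * b) := he
    rw [hfree', Subgroup.mem_bot] at this
    exact congrArg Subtype.val this
  · intro w hw he x
    obtain ⟨α, hα, β, hβ, rfl⟩ := hprod x
    have e : w (α * β) * (α * β)⁻¹ = w β * β⁻¹ := by
      rw [map_mul, hfix a α hα w hw he, mul_inv_rev, hVc α (w β), mul_assoc, hVc β⁻¹ α⁻¹,
        mul_inv_cancel_left]
    rw [e]
    exact mul_mem (hmap _ w hw β hβ) (inv_mem hβ)
  · intro w hw he x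
    obtain ⟨α, hα, β, hβ, rfl⟩ := hprod x
    have e : w (α * β) * (α * β)⁻¹ = w α * α⁻¹ := by
      rw [map_mul, hfix b β hβ w hw he, mul_inv_rev, mul_assoc, mul_inv_cancel_left]
    rw [e]
    exact mul_mem (hmap _ w hw α hα) (inv_mem hα)

end CfsgLib.Blocks.InertiaNine
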